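import Mathlib

/-!
Polynomial words in the conjugates of one element, and the parametrisation of the subgroup they
generate by a finite field.
-/

set_option autoImplicit false

namespace CfsgLib.SLTwoPresent

open Polynomial

variable {p : ℕ} {G : Type*} [Group G]

/-- The product of the `g^i u g^{-i}` to the powers given by the coefficients of `Q`. -/
noncomputable def word (u g : G) (Q : (ZMod p)[X]) : G :=
  ((List.range (Q.natDegree + 1)).map fun i => (g ^ i * u * (g ^ i)⁻¹) ^ (Q.coeff i).val).prod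

theorem map_word {H : Type*} [Group H] (f : G →* H) (u g : G) (Q : (ZMod p)[X]) :
    f (word u g Q) = word (f u) (f g) Q := by
  simp [word, map_list_prod, List.map_map, Function.comp_def]

/-- Evaluation of a word through an additive map intertwining conjugation with an endomorphism. -/
theorem word_eq [NeZero p] {A : Type*} [AddCommGroup A] [Module (ZMod p) A]
    (σ : Module.End (ZMod p) A) (φ : A → G) (hadd : ∀ a b, φ (a + b) = φ a * φ b)
    (g : G) (hg : ∀ a, g * φ a * g⁻¹ = φ (σ a)) (a₀ : A) (Q : (ZMod p)[X]) :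
    word (φ a₀) g Q = φ ((aeval σ Q) a₀) := by
  have h0 : φ 0 = 1 := by
    have h1 := hadd 0 0
    rw [add_zero] at h1
    exact left_eq_mul.1 h1
  have hpow : ∀ i : ℕ, g ^ i * φ a₀ * (g ^ i)⁻¹ = φ ((σ ^ i) a₀) := by
    intro i
    induction i with
    | zero => simp
    | succ i ih =>
      rw [pow_succ' σ, Module.End.mul_apply, ← hg, ← ih, pow_succ']
      group
  have hnsmul : ∀ (n : ℕ) (a : A), φ a ^ n = φ (n • a) := by
    intro n a
    induction n with
    | zero => simp [h0]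
    | succ n ih => rw [pow_succ, ih, ← hadd, succ_nsmul]
  rw [aeval_eq_sum_range, LinearMap.sum_apply, word]
  show _ = φ ((Finset.range (Q.natDegree + 1)).val.map fun i => (Q.coeff i • σ ^ i) a₀).sum
  rw [Finset.range_val, Multiset.range, Multiset.map_coe, Multiset.sum_coe]
  induction List.range (Q.natDegree + 1) with
  | nil => simp [h0]
  | cons i l ih =>
    rw [List.map_cons, List.prod_cons, List.map_cons, List.sum_cons, hadd, ih, hpow, hnsmul,
      LinearMap.smul_apply]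
    congr 2
    conv_rhs => rw [← ZMod.natCast_zmod_val (Q.coeff i), Nat.cast_smul_eq_nsmul]

theorem pow_conj (g u : G) (n : ℕ) : (g * u * g⁻¹) ^ n = g * u ^ n * g⁻¹ := by
  rw [← MulAut.conj_apply, ← map_pow, MulAut.conj_apply]

theorem zpow_conj_shift {g u : G} (k : ℤ) :
    g ^ (k + 1) * u * (g ^ (k + 1))⁻¹ = g * (g ^ k * u * (g ^ k)⁻¹) * g⁻¹ := by
  rw [show k + 1 = 1 + k by ring, zpow_add, zpow_one]; group

theorem commute_all_of_nat {u g : G}
    (hnat : ∀ k : ℕ, Commute u (g ^ k * u * (g ^ k)⁻¹)) (k : ℤ) :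
    Commute u (g ^ k * u * (g ^ k)⁻¹) := by
  obtain ⟨n, rfl | rfl⟩ := Int.eq_nat_or_neg k
  · simpa using hnat n
  · have h := (hnat n).map (MulAut.conj (g ^ (-(n : ℤ))))
    simp only [MulAut.conj_apply] at h
    rw [show g ^ (-(n : ℤ)) * (g ^ n * u * (g ^ n)⁻¹) * (g ^ (-(n : ℤ)))⁻¹ = u by
      rw [zpow_neg, zpow_natCast]; group] at h
    exact h.symm

theorem commute_of_pow [hp : Fact p.Prime] {a b : G} {i j : ℕ} (hi : ¬ p ∣ i) (hj : ¬ p ∣ j)
    (ha : a ^ p = 1) (hb : b ^ p = 1) (h : Commute (a ^ i) (b ^ j)) : Commute a b := by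
  have key : ∀ {c : G} {l : ℕ}, ¬ p ∣ l → c ^ p = 1 → c ∈ Subgroup.zpowers (c ^ l) := by
    intro c l hl hc
    rw [mem_zpowers_pow_iff]
    exact Nat.Coprime.coprime_dvd_right (orderOf_dvd_of_pow_eq_one hc)
      ((hp.out.coprime_iff_not_dvd.2 hl).symm)
  obtain ⟨r, hr⟩ := Subgroup.mem_zpowers_iff.1 (key hi ha)
  obtain ⟨s, hs⟩ := Subgroup.mem_zpowers_iff.1 (key hj hb)
  rw [← hr, ← hs]
  exact h.zpow_zpow r s

/-- The trinomial trick: a relation `c u c⁻¹ = u^i (g u g⁻¹)^j` with `c` commuting with `g` spreads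
commutation to all conjugates under `g`. -/
theorem commute_trinomial [hp : Fact p.Prime] {u g c : G} (hu : u ^ p = 1)
    (h1 : Commute u (g * u * g⁻¹)) (hcg : Commute c g) {i j : ℕ} (hi : ¬ p ∣ i) (hj : ¬ p ∣ j)
    (hrel : c * u * c⁻¹ = u ^ i * (g * u * g⁻¹) ^ j) :
    ∀ k : ℕ, Commute u (g ^ k * u * (g ^ k)⁻¹) := by
  intro k
  induction k using Nat.strong_induction_on with
  | _ k ih =>
  match k with
  | 0 => simp
  | 1 => simpa using h1
  | k + 2 =>
    set s : ℕ → G := fun l => g ^ l * u * (g ^ l)⁻¹ with hs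
    have hsp : ∀ l, s l ^ p = 1 := fun l => by
      simp only [hs]; rw [pow_conj, hu, mul_one, mul_inv_cancel]
    have hshift : ∀ l, g * s l * g⁻¹ = s (l + 1) := fun l => by
      simp only [hs]; rw [pow_succ']; group
    have hsh1 : ∀ l, Commute u (s l) → Commute (s 1) (s (l + 1)) := fun l hl => by
      have h := hl.map (MulAut.conj g)
      simp only [MulAut.conj_apply] at h
      rw [hshift] at h
      have hs1 : s 1 = g * u * g⁻¹ := by simp [hs]
      rwa [hs1]
    -- `c` moves `s l` to the product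
    have hcs : ∀ l, c * s l * c⁻¹ = s l ^ i * s (l + 1) ^ j := fun l => by
      have hc' : Commute c (g ^ l) := hcg.pow_right l
      calc c * s l * c⁻¹ = g ^ l * (c * u * c⁻¹) * (g ^ l)⁻¹ := by
            simp only [hs]
            rw [← mul_assoc, ← mul_assoc, hc'.eq, mul_assoc, ← (hc'.inv_right.inv_left).eq]
            group
        _ = (g ^ l * u ^ i * (g ^ l)⁻¹) * (g ^ l * (g * u * g⁻¹) ^ j * (g ^ l)⁻¹) := by
            rw [hrel]; group
        _ = _ := by
            rw [← pow_conj, ← pow_conj, show g ^ l * (g * u * g⁻¹) * (g ^ l)⁻¹ = s (l + 1) by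
              simp only [hs]; rw [pow_succ]; group]
    have hk := (ih (k + 1) (by omega)).map (MulAut.conj c)
    simp only [MulAut.conj_apply] at hk
    rw [hrel, hcs (k + 1)] at hk
    have hus : Commute u (s (k + 1)) := ih (k + 1) (by omega)
    have h1a : Commute (s 1) (s (k + 1)) := hsh1 k (ih k (by omega))
    have h1b : Commute (s 1) (s (k + 2)) := hsh1 (k + 1) hus
    have hs1 : g * u * g⁻¹ = s 1 := by simp [hs]
    rw [hs1] at hk
    have hx : Commute (s 1 ^ j) (s (k + 1) ^ i * s (k + 2) ^ j) :=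
      (h1a.pow_pow j i).mul_right (h1b.pow_pow j j)
    have hA := hk.mul_left hx.inv_left
    rw [mul_inv_cancel_right] at hA
    have hB := ((hus.pow_pow i i).inv_right).mul_right hA
    rw [inv_mul_cancel_left] at hB
    exact commute_of_pow hi hj hu (hsp _) hB

/-- A quadratic relation also spreads commutation. -/
theorem commute_quadratic {u g : G} (h1 : Commute u (g * u * g⁻¹)) {i j : ℕ}
    (hrel : g * (g * u * g⁻¹) * g⁻¹ = u ^ i * (g * u * g⁻¹) ^ j) :
    ∀ k : ℕ, Commute u (g ^ k * u * (g ^ k)⁻¹) := by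
  intro k
  suffices h : g ^ k * u * (g ^ k)⁻¹ ∈ Subgroup.centralizer ({u} : Set G) ∧
      g ^ (k + 1) * u * (g ^ (k + 1))⁻¹ ∈ Subgroup.centralizer ({u} : Set G) ∧
      g ^ k * u * (g ^ k)⁻¹ ∈ Subgroup.closure ({u, g * u * g⁻¹} : Set G) ∧
      g ^ (k + 1) * u * (g ^ (k + 1))⁻¹ ∈ Subgroup.closure ({u, g * u * g⁻¹} : Set G) from
    (Subgroup.mem_centralizer_singleton_iff.1 h.1).symm
  have hle : Subgroup.closure ({u, g * u * g⁻¹} : Set G) ≤ Subgroup.centralizer ({u} : Set G) := by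
    rw [Subgroup.closure_le]
    rintro a (ha | ha) <;> rw [SetLike.mem_coe, ha, Subgroup.mem_centralizer_singleton_iff]
    exact h1.eq.symm
  have hu' : u ∈ Subgroup.closure ({u, g * u * g⁻¹} : Set G) :=
    Subgroup.subset_closure (Set.mem_insert _ _)
  have hgu' : g * u * g⁻¹ ∈ Subgroup.closure ({u, g * u * g⁻¹} : Set G) :=
    Subgroup.subset_closure (Set.mem_insert_of_mem _ rfl)
  have hmem : ∀ l : ℕ, g ^ l * u * (g ^ l)⁻¹ ∈ Subgroup.closure ({u, g * u * g⁻¹} : Set G) := by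
    have hinv : Subgroup.closure ({u, g * u * g⁻¹} : Set G) ≤
        (Subgroup.closure ({u, g * u * g⁻¹} : Set G)).comap (MulAut.conj g).toMonoidHom := by
      rw [Subgroup.closure_le]
      rintro a (ha | ha) <;> rw [SetLike.mem_coe, ha]
      · exact hgu'
      · show g * (g * u * g⁻¹) * g⁻¹ ∈ Subgroup.closure ({u, g * u * g⁻¹} : Set G)
        rw [hrel]
        exact Subgroup.mul_mem _ (Subgroup.pow_mem _ hu' _) (Subgroup.pow_mem _ hgu' _)
    intro l
    induction l with
    | zero => simpa using hu'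
    | succ l ih =>
      rw [pow_succ', show g * g ^ l * u * (g * g ^ l)⁻¹ = g * (g ^ l * u * (g ^ l)⁻¹) * g⁻¹ by group]
      exact hinv ih
  exact ⟨hle (hmem k), hle (hmem (k + 1)), hmem k, hmem (k + 1)⟩

/-- The parametrisation, given a module parametrising the conjugates. -/
theorem param_core [hp : Fact p.Prime] {F : Type*} [Field F] [Algebra (ZMod p) F]
    {A : Type*} [AddCommGroup A] [Module (ZMod p) A] (σ : Module.End (ZMod p) A) (φ : A → G)
    (hinj : Function.Injective φ) (hφadd : ∀ a b, φ (a + b) = φ a * φ b)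
    (u g h : G) (hg : ∀ a, g * φ a * g⁻¹ = φ (σ a)) (a₀ : A) (hu0 : φ a₀ = u)
    (x y : F)
    (hgh : Commute g h) (hsurj : Function.Surjective (aeval y : (ZMod p)[X] → F))
    (P : (ZMod p)[X]) (hPx : aeval y P = x) (hP : h * u * h⁻¹ = word u g P)
    (hm : (word u g (minpoly (ZMod p) y) = 1) ∨
      (∃ (n a : ℕ) (R : (ZMod p)[X]), 0 < n ∧ 0 < a ∧ g = h ^ a ∧ h ^ n = 1 ∧
        X ^ n - 1 = minpoly (ZMod p) y * R ∧ R ∣ P) ∨
      ∃ (N : ℕ) (R : (ZMod p)[X]), 0 < N ∧ h ^ N = 1 ∧ g ^ N = 1 ∧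
        X ^ N - 1 = minpoly (ZMod p) y * R ∧ R ∣ P) :
    ∃ ψ : F → G, (∀ a b, ψ (a + b) = ψ a * ψ b) ∧ ψ 1 = u ∧ (∀ t, h * ψ t * h⁻¹ = ψ (x * t)) ∧
      (∀ t, g * ψ t * g⁻¹ = ψ (y * t)) ∧ ∀ Q : (ZMod p)[X], word u g Q = ψ (aeval y Q) := by
  have hφ0 : φ 0 = 1 := by
    have h1 := hφadd 0 0
    rw [add_zero] at h1
    exact left_eq_mul.1 h1
  have hw : ∀ (a : A) (n : ℕ), φ (n • a) = φ a ^ n := by
    intro a n
    induction n with
    | zero => simp [hφ0]
    | succ n ih => rw [succ_nsmul, hφadd, ih, pow_succ]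
  have hφ : ∀ Q : (ZMod p)[X], word u g Q = φ ((aeval σ Q) a₀) := fun Q => by
    rw [← hu0]; exact word_eq σ φ hφadd g hg a₀ Q
  let Φ : (ZMod p)[X] → G := fun Q => φ ((aeval σ Q) a₀)
  have hΦadd : ∀ A B, Φ (A + B) = Φ A * Φ B := fun A B => by
    simp only [Φ, map_add, LinearMap.add_apply, hφadd]
  have hΦ0 : ∀ A, Φ A = 1 ↔ (aeval σ A) a₀ = 0 := fun A => by
    refine ⟨fun h1 => ?_, fun h1 => by simp [Φ, h1, hφ0]⟩
    exact hinj (h1.trans hφ0.symm)
  have hΦX : ∀ A, g * Φ A * g⁻¹ = Φ (X * A) := fun A => by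
    simp only [Φ, map_mul, aeval_X, Module.End.mul_apply]
    exact hg _
  have hkill : ∀ A B, Φ A = 1 → Φ (B * A) = 1 := by
    intro A B hA
    rw [hΦ0] at hA ⊢
    rw [map_mul, Module.End.mul_apply, hA, map_zero]
  -- conjugation by `h`
  have hhΦ : ∀ A, h * Φ A * h⁻¹ = Φ (A * P) := by
    intro A
    induction A using Polynomial.induction_on' with
    | add A B hA hB =>
      rw [add_mul, hΦadd, hΦadd, ← hA, ← hB]; group
    | monomial l c =>
      have hmon : ∀ (c : ZMod p) (l : ℕ), Φ (monomial l c) = (g ^ l * u * (g ^ l)⁻¹) ^ c.val := by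
        intro c l
        have hl : ∀ l : ℕ, φ ((σ ^ l) a₀) = g ^ l * u * (g ^ l)⁻¹ := by
          intro l
          induction l with
          | zero => simp [hu0]
          | succ l ih =>
            rw [pow_succ' σ, Module.End.mul_apply, ← hg, ih, pow_succ']
            group
        simp only [Φ, ← C_mul_X_pow_eq_monomial, map_mul, aeval_C, map_pow, aeval_X,
          Module.End.mul_apply, Module.algebraMap_end_apply]
        conv_lhs => rw [← ZMod.natCast_zmod_val c, Nat.cast_smul_eq_nsmul]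
        rw [hw, hl]
      have hPΦ : h * u * h⁻¹ = Φ P := hP.trans (hφ P)
      have hgl : Commute h (g ^ l) := (hgh.symm).pow_right l
      have hshift : ∀ l : ℕ, Φ (X ^ l * P) = g ^ l * Φ P * (g ^ l)⁻¹ := by
        intro l
        induction l with
        | zero => simp
        | succ l ih => rw [pow_succ' X, mul_assoc, ← hΦX, ih, pow_succ']; group
      have hΦnsmul : ∀ (n : ℕ) A, Φ (n • A) = Φ A ^ n := by
        intro n A
        simp only [Φ, map_nsmul, LinearMap.smul_apply, hw]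
      rw [hmon, ← pow_conj, show h * (g ^ l * u * (g ^ l)⁻¹) * h⁻¹ =
        g ^ l * (h * u * h⁻¹) * (g ^ l)⁻¹ by
          rw [← mul_assoc, ← mul_assoc, hgl.eq, mul_assoc, ← (hgl.inv_right.inv_left).eq]; group,
        hPΦ, ← hshift, ← hΦnsmul]
      congr 1
      rw [← C_mul_X_pow_eq_monomial, mul_assoc, nsmul_eq_mul, ← map_natCast C,
        ZMod.natCast_zmod_val]
  -- the minimal polynomial acts trivially
  have hΦm : Φ (minpoly (ZMod p) y) = 1 := by
    rcases hm with h1 | ⟨n, a, R, hn, ha, hga, hhn, hXn, hRP⟩ | ⟨n, R, hn, hhn, hgn, hXn, hRP⟩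
    · exact (hφ _).symm.trans h1
    rotate_left
    · have hiter : ∀ l : ℕ, h ^ l * Φ 1 * (h ^ l)⁻¹ = Φ (P ^ l) := by
        intro l
        induction l with
        | zero => simp
        | succ l ih =>
          rw [show h ^ (l + 1) * Φ 1 * (h ^ (l + 1))⁻¹ = h * (h ^ l * Φ 1 * (h ^ l)⁻¹) * h⁻¹ by
            rw [pow_succ']; group, ih, hhΦ, pow_succ]
      have hX : ∀ l : ℕ, g ^ l * Φ 1 * (g ^ l)⁻¹ = Φ (X ^ l) := by
        intro l
        induction l with
        | zero => simp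
        | succ l ih =>
          rw [show g ^ (l + 1) * Φ 1 * (g ^ (l + 1))⁻¹ = g * (g ^ l * Φ 1 * (g ^ l)⁻¹) * g⁻¹ by
            rw [pow_succ']; group, ih, hΦX, pow_succ']
      have hsub : ∀ A B, Φ A = Φ B → Φ (A - B) = 1 := by
        intro A B hAB
        have h2 := hΦadd (A - B) B
        rw [sub_add_cancel, hAB] at h2
        exact right_eq_mul.1 h2
      have hPn : Φ (P ^ n - 1) = 1 := hsub _ _ (by rw [← hiter, hhn]; simp)
      have hXn1 : Φ (X ^ n - 1) = 1 := hsub _ _ (by rw [← hX, hgn]; simp)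
      obtain ⟨P', rfl⟩ := hRP
      obtain ⟨n, rfl⟩ := Nat.exists_eq_succ_of_ne_zero hn.ne'
      set m := minpoly (ZMod p) y
      have hid : m = P' * (R * P') ^ n * (X ^ (n + 1) - 1) + -m * ((R * P') ^ (n + 1) - 1) := by
        rw [hXn]; ring
      rw [hid, hΦadd, hkill _ _ hXn1, hkill _ _ hPn, one_mul]
    have hiter : ∀ l : ℕ, ∀ A, h ^ l * Φ A * (h ^ l)⁻¹ = Φ (A * P ^ l) := by
      intro l
      induction l with
      | zero => intro A; simp
      | succ l ih =>
        intro A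
        rw [show h ^ (l + 1) * Φ A * (h ^ (l + 1))⁻¹ = h ^ l * (h * Φ A * h⁻¹) * (h ^ l)⁻¹ by
          rw [pow_succ]; group, hhΦ, ih, pow_succ']
        ring_nf
    have hsub : ∀ A B, Φ A = Φ B → Φ (A - B) = 1 := by
      intro A B hAB
      have h2 := hΦadd (A - B) B
      rw [sub_add_cancel, hAB] at h2
      exact right_eq_mul.1 h2
    have hXPa : Φ (X - P ^ a) = 1 := by
      refine hsub _ _ ?_
      have h2 := hΦX 1
      rw [mul_one] at h2
      rw [← h2, hga, hiter, one_mul]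
    have hXn1 : Φ (X ^ n - 1) = 1 := by
      refine hsub _ _ ?_
      have hX : ∀ l : ℕ, Φ (X ^ l) = g ^ l * Φ 1 * (g ^ l)⁻¹ := by
        intro l
        induction l with
        | zero => simp
        | succ l ih => rw [pow_succ' X, ← hΦX, ih, pow_succ']; group
      rw [hX, hga, ← pow_mul, mul_comm, pow_mul, hhn, one_pow]; simp
    obtain ⟨P', rfl⟩ := hRP
    obtain ⟨a, rfl⟩ := Nat.exists_eq_succ_of_ne_zero ha.ne'
    obtain ⟨n, rfl⟩ := Nat.exists_eq_succ_of_ne_zero hn.ne'
    set m := minpoly (ZMod p) y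
    have hid : m = m * X ^ n * (X - (R * P') ^ (a + 1)) +
        ((R * P') ^ a * P' * X ^ n - m) * (X ^ (n + 1) - 1) := by
      have : (R * P') ^ a * P' * X ^ n * (X ^ (n + 1) - 1) =
          m * X ^ n * (R * P') ^ (a + 1) := by rw [hXn]; ring
      linear_combination -this
    rw [hid, hΦadd, hkill _ _ hXPa, hkill _ _ hXn1, one_mul]
  have hker : ∀ A B, aeval y A = aeval y B → Φ A = Φ B := by
    intro A B hAB
    obtain ⟨C', hC⟩ := minpoly.dvd (ZMod p) y (p := A - B) (by rw [map_sub, hAB, sub_self])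
    have h2 := hΦadd (A - B) B
    rw [sub_add_cancel, hC, mul_comm, hkill _ _ hΦm, one_mul] at h2
    exact h2
  choose pre hpre using hsurj
  refine ⟨fun t => Φ (pre t), fun a b => ?_, ?_, fun t => ?_, fun t => ?_, fun Q => ?_⟩
  · show Φ (pre (a + b)) = Φ (pre a) * Φ (pre b)
    rw [← hΦadd]
    exact hker _ _ (by rw [map_add, hpre, hpre, hpre])
  · show Φ (pre 1) = u
    rw [hker (pre 1) 1 (by rw [hpre, map_one])]
    simp [Φ, hu0]
  · show h * Φ (pre t) * h⁻¹ = _
    rw [hhΦ]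
    exact hker _ _ (by rw [map_mul, hpre, hpre, hPx, mul_comm])
  · show g * Φ (pre t) * g⁻¹ = _
    rw [hΦX]
    exact hker _ _ (by rw [map_mul, hpre, hpre, aeval_X])
  · show word u g Q = Φ (pre (aeval y Q))
    rw [hφ]
    exact hker _ _ (by rw [hpre])


/-- The parametrisation: under commutation, a relation `h u h⁻¹ = word P` and enough information
to kill the minimal polynomial of `y`, the conjugates of `u` form an image of the field. -/
theorem exists_param [hp : Fact p.Prime] {F : Type*} [Field F] [Algebra (ZMod p) F]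
    (u g h : G) (x y : F) (hu : u ^ p = 1) (hcomm : ∀ k : ℕ, Commute u (g ^ k * u * (g ^ k)⁻¹))
    (hgh : Commute g h) (hsurj : Function.Surjective (aeval y : (ZMod p)[X] → F))
    (P : (ZMod p)[X]) (hPx : aeval y P = x) (hP : h * u * h⁻¹ = word u g P)
    (hm : (word u g (minpoly (ZMod p) y) = 1) ∨
      (∃ (n a : ℕ) (R : (ZMod p)[X]), 0 < n ∧ 0 < a ∧ g = h ^ a ∧ h ^ n = 1 ∧
        X ^ n - 1 = minpoly (ZMod p) y * R ∧ R ∣ P) ∨
      ∃ (N : ℕ) (R : (ZMod p)[X]), 0 < N ∧ h ^ N = 1 ∧ g ^ N = 1 ∧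
        X ^ N - 1 = minpoly (ZMod p) y * R ∧ R ∣ P) :
    ∃ ψ : F → G, (∀ a b, ψ (a + b) = ψ a * ψ b) ∧ ψ 1 = u ∧ (∀ t, h * ψ t * h⁻¹ = ψ (x * t)) ∧
      (∀ t, g * ψ t * g⁻¹ = ψ (y * t)) ∧ ∀ Q : (ZMod p)[X], word u g Q = ψ (aeval y Q) := by
  let U : Subgroup G := Subgroup.closure (Set.range fun k : ℤ => g ^ k * u * (g ^ k)⁻¹)
  have hall := commute_all_of_nat hcomm
  haveI : IsMulCommutative U := Subgroup.isMulCommutative_closure (by
    rintro _ ⟨k, rfl⟩ _ ⟨l, rfl⟩
    have h1 := (hall (l - k)).map (MulAut.conj (g ^ k))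
    simp only [MulAut.conj_apply] at h1
    rw [show g ^ k * (g ^ (l - k) * u * (g ^ (l - k))⁻¹) * (g ^ k)⁻¹ = g ^ l * u * (g ^ l)⁻¹ by
      rw [zpow_sub]; group] at h1
    exact h1.eq)
  have hgU : ∀ a ∈ U, g * a * g⁻¹ ∈ U := by
    intro a ha
    have : U ≤ U.comap (MulAut.conj g).toMonoidHom := by
      rw [Subgroup.closure_le]
      rintro _ ⟨k, rfl⟩
      exact Subgroup.subset_closure ⟨k + 1, zpow_conj_shift k⟩
    exact this ha
  let instU : CommGroup U := { (inferInstance : Group U) with mul_comm := fun a b => mul_comm' a b }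
  have hexp : ∀ a : U, a ^ p = 1 := by
    intro a
    have : U ≤ ((powMonoidHom p : U →* U).ker).map U.subtype := by
      rw [Subgroup.closure_le]
      rintro _ ⟨k, rfl⟩
      refine ⟨⟨_, Subgroup.subset_closure ⟨k, rfl⟩⟩, Subtype.ext ?_, rfl⟩
      show (g ^ k * u * (g ^ k)⁻¹) ^ p = 1
      rw [pow_conj, hu, mul_one, mul_inv_cancel]
    obtain ⟨b, hb, he⟩ := this a.2
    rw [show a = b from Subtype.ext he.symm]
    exact hb
  let inst : Module (ZMod p) (Additive U) := AddCommGroup.zmodModule (fun a => by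
    apply Additive.toMul.injective
    simpa using hexp a.toMul)
  let σ : Module.End (ZMod p) (Additive U) := AddMonoidHom.toZModLinearMap p
    (AddMonoidHom.mk' (fun a => Additive.ofMul (⟨g * (a.toMul : G) * g⁻¹, hgU _ a.toMul.2⟩ : U))
      (fun a b => by
        apply Additive.toMul.injective
        exact Subtype.ext (by simp [mul_assoc])))
  refine param_core σ (fun a => (a.toMul : G))
    (Subtype.val_injective.comp Additive.toMul.injective) (fun a b => rfl) u g h (fun a => rfl)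
    (Additive.ofMul ⟨u, Subgroup.subset_closure ⟨0, by simp⟩⟩) rfl x y hgh hsurj P hPx hP hm

end CfsgLib.SLTwoPresent
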