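import Mathlib

/-!
Choices of field generators and exponents for short presentations of `SL_2`.
-/

set_option autoImplicit false

namespace CfsgLib.SLTwoPresent

open Polynomial

variable {p : ℕ} [hp : Fact p.Prime] {F : Type*} [Field F] [Fintype F] [Algebra (ZMod p) F]

/-- An element not generating the field lies in a Frobenius-fixed proper subfield. -/
theorem exists_frob (c : F) (h : ¬ Function.Surjective (aeval c : (ZMod p)[X] → F)) :
    ∃ d : ℕ, 0 < d ∧ p ^ d * p ≤ Fintype.card F ∧
      ∀ Q : (ZMod p)[X], (aeval c Q) ^ (p ^ d) = aeval c Q := by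
  classical
  haveI : CharP F p := charP_of_injective_algebraMap (algebraMap (ZMod p) F).injective p
  let A : Subalgebra (ZMod p) F := (aeval c : (ZMod p)[X] →ₐ[ZMod p] F).range
  haveI : Fintype A := Fintype.ofFinite A
  letI : Field A := Fintype.fieldOfDomain A
  obtain ⟨e, -, he⟩ := FiniteField.card F p
  have hd : Nat.card A.toSubring.toAddSubgroup ∣ Nat.card F :=
    AddSubgroup.card_addSubgroup_dvd_card _
  have hAc : Nat.card A.toSubring.toAddSubgroup = Nat.card A := rfl
  rw [hAc, Nat.card_eq_fintype_card (α := F), he] at hd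
  obtain ⟨d, hde, hd'⟩ := (Nat.dvd_prime_pow hp.out).1 hd
  haveI : Nontrivial A := ⟨⟨0, 1, zero_ne_one⟩⟩
  refine ⟨d, ?_, ?_, fun Q => ?_⟩
  · rcases Nat.eq_zero_or_pos d with rfl | hd0
    · exact absurd hd' (by rw [pow_zero]; exact Finite.one_lt_card.ne')
    · exact hd0
  · rw [he, ← pow_succ]
    refine Nat.pow_le_pow_right hp.out.pos ?_
    rcases hde.lt_or_eq with h1 | rfl
    · omega
    exfalso
    have hcard : Fintype.card A = Fintype.card F := by rw [← Nat.card_eq_fintype_card, hd', he]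
    have hb : Function.Bijective (Subtype.val : A → F) :=
      (Fintype.bijective_iff_injective_and_card _).2 ⟨Subtype.val_injective, hcard⟩
    refine h fun t => ?_
    obtain ⟨⟨s, Q, hQ⟩, rfl⟩ := hb.2 t
    exact ⟨Q, hQ⟩
  · have h1 := FiniteField.pow_card (⟨aeval c Q, Q, rfl⟩ : A)
    rw [← Nat.card_eq_fintype_card, hd'] at h1
    exact congrArg Subtype.val h1

/-- An element of multiplicative order at least `(q-1)/2` generates the field. -/
theorem surjective_of_orderOf {x : F} {n : ℕ} (hx : orderOf x = n) (hn : 0 < n)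
    (hq : Fintype.card F ≤ 2 * n + 1) : Function.Surjective (aeval x : (ZMod p)[X] → F) := by
  by_contra h
  obtain ⟨d, hd, hPq, hfix⟩ := exists_frob x h
  have hP : 1 < p ^ d := Nat.one_lt_pow hd.ne' hp.out.one_lt
  have h1 := hfix X
  rw [aeval_X] at h1
  have hx0 : x ≠ 0 := fun h0 => by rw [h0, orderOf_zero] at hx; omega
  have h2 : x ^ (p ^ d - 1) = 1 := by
    apply mul_right_cancel₀ hx0
    rw [← pow_succ, Nat.sub_add_cancel hP.le, h1, one_mul]
  have h3 := Nat.le_of_dvd (by omega) (hx ▸ orderOf_dvd_of_pow_eq_one h2)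
  have h4 : p ^ d * 2 ≤ p ^ d * p := Nat.mul_le_mul_left _ hp.out.two_le
  omega

/-- In odd characteristic and with more than nine elements, `x + x⁻¹` generates the field. -/
theorem surjective_add_inv {x : F} {n : ℕ} (hx : orderOf x = n) (hn : 0 < n) (hp2 : p ≠ 2)
    (hq : Fintype.card F ≤ 2 * n + 1) (h9 : 9 < Fintype.card F) :
    Function.Surjective (aeval (x + x⁻¹) : (ZMod p)[X] → F) := by
  by_contra h
  obtain ⟨d, hd, hPq, hfix⟩ := exists_frob _ h
  haveI : CharP F p := charP_of_injective_algebraMap (algebraMap (ZMod p) F).injective p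
  have hP : 1 < p ^ d := Nat.one_lt_pow hd.ne' hp.out.one_lt
  have hp3 : 3 ≤ p := by have := hp.out.two_le; omega
  have h4 : p ^ d * 3 ≤ p ^ d * p := Nat.mul_le_mul_left _ hp3
  have hx0 : x ≠ 0 := fun h0 => by rw [h0, orderOf_zero] at hx; omega
  have h1 := hfix X
  rw [aeval_X, add_pow_char_pow] at h1
  have hy0 : x ^ p ^ d ≠ 0 := pow_ne_zero _ hx0
  rw [inv_pow] at h1
  have h2 : (x ^ p ^ d - x) * (x ^ p ^ d * x - 1) = 0 := by
    field_simp at h1
    linear_combination h1
  rcases mul_eq_zero.1 h2 with h3 | h3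
  · have h5 : x ^ (p ^ d - 1) = 1 := by
      apply mul_right_cancel₀ hx0
      rw [← pow_succ, Nat.sub_add_cancel hP.le, sub_eq_zero.1 h3, one_mul]
    have := Nat.le_of_dvd (by omega) (hx ▸ orderOf_dvd_of_pow_eq_one h5)
    omega
  · rw [← pow_succ, sub_eq_zero] at h3
    have := Nat.le_of_dvd (by omega) (hx ▸ orderOf_dvd_of_pow_eq_one h3)
    omega

/-- A polynomial representing an element, divisible by the cofactor of the minimal polynomial in
`X^n - 1`. -/
theorem exists_crt {y : F} {n : ℕ} (hyn : y ^ n = 1) (hpn : ¬ p ∣ n)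
    (hsurj : Function.Surjective (aeval y : (ZMod p)[X] → F)) (t : F) :
    ∃ R P : (ZMod p)[X], X ^ n - 1 = minpoly (ZMod p) y * R ∧ R ∣ P ∧ aeval y P = t := by
  obtain ⟨R, hR⟩ := minpoly.dvd (ZMod p) y (p := X ^ n - 1) (by simp [hyn])
  have hsep : (X ^ n - C (1 : ZMod p)).Separable := separable_X_pow_sub_C' p n 1 hpn one_ne_zero
  rw [map_one, hR] at hsep
  obtain ⟨a, b, hab⟩ := hsep.isCoprime
  obtain ⟨P₀, rfl⟩ := hsurj t
  refine ⟨R, b * R * P₀, hR, Dvd.intro (b * P₀) (by ring), ?_⟩
  have h1 := congrArg (aeval y) hab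
  rw [map_add, map_mul, minpoly.aeval, mul_zero, zero_add, map_one] at h1
  rw [map_mul, h1, one_mul]

end CfsgLib.SLTwoPresent
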