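import Cfsg.Agent.Classical.SLGen
import Cfsg.Agent.Lib.SLTwoPresent.Word

/-!
The standard generators of `SL_2` and the criterion turning an order bound into a presentation.
-/

set_option autoImplicit false

namespace CfsgLib.SLTwoPresent

open Matrix

variable {F : Type*} [Field F]

local notation "SL2" => Matrix.SpecialLinearGroup (Fin 2) F

/-- The upper unipotent element. -/
def uu (t : F) : SL2 := ⟨!![1, t; 0, 1], by simp [Matrix.det_fin_two]⟩

/-- The diagonal element. -/
def dd (a : Fˣ) : SL2 := ⟨!![(a : F), 0; 0, ((a⁻¹ : Fˣ) : F)], by simp [Matrix.det_fin_two]⟩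

/-- The monomial element. -/
def ww : SL2 := ⟨!![0, 1; -1, 0], by simp [Matrix.det_fin_two]⟩

theorem uu_add (a b : F) : uu (a + b) = uu a * uu b := by
  apply Subtype.ext
  simp only [Matrix.SpecialLinearGroup.coe_mul]
  simp [uu, add_comm a b]

theorem uu_zero : uu (0 : F) = 1 := by
  apply Subtype.ext
  simp [uu, Matrix.one_fin_two]

theorem uu_pow (t : F) (k : ℕ) : uu t ^ k = uu ((k : F) * t) := by
  induction k with
  | zero => simp [uu_zero]
  | succ k ih => rw [pow_succ, ih, ← uu_add]; push_cast; ring_nf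

theorem dd_mul (a b : Fˣ) : dd (a * b) = dd a * dd b := by
  apply Subtype.ext
  simp only [Matrix.SpecialLinearGroup.coe_mul]
  simp [dd, mul_comm]

theorem dd_one : dd (1 : Fˣ) = (1 : SL2) := by
  apply Subtype.ext
  simp [dd, Matrix.one_fin_two]

theorem dd_pow (a : Fˣ) (k : ℕ) : dd (a ^ k) = (dd a) ^ k := by
  induction k with
  | zero => simp [dd_one]
  | succ k ih => rw [pow_succ, pow_succ, dd_mul, ih]

theorem dd_inv (a : Fˣ) : dd a⁻¹ = (dd a)⁻¹ := by
  rw [eq_inv_iff_mul_eq_one, ← dd_mul, inv_mul_cancel, dd_one]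

theorem dd_conj (a : Fˣ) (t : F) : dd a * uu t * (dd a)⁻¹ = uu ((a : F) ^ 2 * t) := by
  rw [mul_inv_eq_iff_eq_mul]
  apply Subtype.ext
  simp only [Matrix.SpecialLinearGroup.coe_mul]
  simp [dd, uu]
  field_simp

theorem dd_pow_conj (a : Fˣ) (k : ℕ) (t : F) :
    dd a ^ k * uu t * (dd a ^ k)⁻¹ = uu (((a : F) ^ 2) ^ k * t) := by
  rw [← dd_pow, dd_conj, Units.val_pow_eq_pow_val, ← pow_mul, ← pow_mul, mul_comm 2 k]

theorem ww_conj (a : Fˣ) : ww * dd a * (ww : SL2)⁻¹ = (dd a)⁻¹ := by
  rw [← dd_inv, mul_inv_eq_iff_eq_mul]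
  apply Subtype.ext
  simp only [Matrix.SpecialLinearGroup.coe_mul]
  simp [dd, ww]

theorem ww_sq : (ww : SL2) * ww = dd (-1) := by
  apply Subtype.ext
  simp only [Matrix.SpecialLinearGroup.coe_mul]
  simp [dd, ww]

theorem step (t : F) (ht : t ≠ 0) :
    ww * uu t * ww = uu (-t⁻¹) * dd (Units.mk0 (-t⁻¹) (by simp [ht])) * ww * uu (-t⁻¹) := by
  apply Subtype.ext
  simp only [Matrix.SpecialLinearGroup.coe_mul]
  simp [dd, ww, uu]
  field_simp
  simp

theorem neg_one_mem_center : dd (-1 : Fˣ) ∈ Subgroup.center SL2 := by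
  rw [Subgroup.mem_center_iff]
  intro g
  apply Subtype.ext
  have : ((dd (-1 : Fˣ) : SL2) : Matrix (Fin 2) (Fin 2) F) = -1 := by
    simp [dd, Matrix.one_fin_two]
  simp [this]

theorem eq_top_of_uu {K : Subgroup SL2} (hu : ∀ t, uu t ∈ K) (hw : ww ∈ K) : K = ⊤ := by
  refine Cfsg.Agent.Classical.sl_subgroup_eq_top_of_transvection_mem K fun i j hij c => ?_
  fin_cases i <;> fin_cases j
  · exact absurd rfl hij
  · convert hu c using 1
    apply Subtype.ext
    ext a b
    fin_cases a <;> fin_cases b <;>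
      simp [uu, Matrix.SpecialLinearGroup.transvection_coe, Matrix.one_apply, Matrix.single_apply]
  · convert K.mul_mem (K.mul_mem hw (hu (-c))) (K.inv_mem hw) using 1
    rw [eq_mul_inv_iff_mul_eq]
    apply Subtype.ext
    rw [Matrix.SpecialLinearGroup.coe_mul, Matrix.SpecialLinearGroup.coe_mul,
      Matrix.SpecialLinearGroup.transvection_coe]
    ext a b
    fin_cases a <;> fin_cases b <;>
      simp [uu, ww, Matrix.one_apply, Matrix.single_apply, Matrix.mul_apply, Fin.sum_univ_two]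
  · exact absurd rfl hij

theorem word_map_uu {p : ℕ} [NeZero p] [Algebra (ZMod p) F] {T : Type*} [Group T]
    (π : SL2 →* T) (a : Fˣ) (k : ℕ) (Q : Polynomial (ZMod p)) :
    word (π (uu 1)) (π (dd a) ^ k) Q = π (uu (Polynomial.aeval (((a : F) ^ 2) ^ k) Q)) := by
  have h := word_eq (LinearMap.mulLeft (ZMod p) (((a : F) ^ 2) ^ k)) (fun t => π (uu t))
    (fun s t => by rw [uu_add, map_mul]) (π (dd a) ^ k) (fun t => by
      show π (dd a) ^ k * π (uu t) * (π (dd a) ^ k)⁻¹ = _
      rw [← map_pow, ← map_inv, ← map_mul, ← map_mul, dd_pow_conj]; rfl) (1 : F) Q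
  rw [h]
  congr 2
  rw [show LinearMap.mulLeft (ZMod p) (((a : F) ^ 2) ^ k) =
    Algebra.lmul (ZMod p) F (((a : F) ^ 2) ^ k) from rfl, Polynomial.aeval_algHom_apply]
  simp

/-- A presentation on three given generators. -/
def Presents {T : Type*} [Group T] (u h w : T) (rels : Finset (FreeGroup (Fin 3))) : Prop :=
  ∃ e : PresentedGroup (↑rels : Set (FreeGroup (Fin 3))) ≃* T,
    e (PresentedGroup.of 0) = u ∧ e (PresentedGroup.of 1) = h ∧ e (PresentedGroup.of 2) = w

theorem Presents.nonempty {T : Type*} [Group T] {u h w : T} {rels : Finset (FreeGroup (Fin 3))}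
    (hP : Presents u h w rels) :
    Nonempty (PresentedGroup (↑rels : Set (FreeGroup (Fin 3))) ≃* T) := ⟨hP.choose⟩

/-- The generators of a presentation generate. -/
theorem Presents.closure_eq_top {T : Type*} [Group T] {u h w : T}
    {rels : Finset (FreeGroup (Fin 3))} (hP : Presents u h w rels) :
    Subgroup.closure ({u, h, w} : Set T) = ⊤ := by
  obtain ⟨e, h0, h1, h2⟩ := hP
  rw [← Subgroup.map_top_of_surjective e.toMonoidHom e.surjective,
    ← PresentedGroup.closure_range_of, MonoidHom.map_closure]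
  congr 1
  ext a
  simp only [Set.mem_insert_iff, Set.mem_singleton_iff, Set.mem_image, Set.mem_range]
  constructor
  · rintro (rfl | rfl | rfl)
    exacts [⟨_, ⟨0, rfl⟩, h0⟩, ⟨_, ⟨1, rfl⟩, h1⟩, ⟨_, ⟨2, rfl⟩, h2⟩]
  · rintro ⟨_, ⟨i, rfl⟩, rfl⟩
    fin_cases i <;> simp [← h0, ← h1, ← h2]

/-- Homomorphisms out of a presented group. -/
theorem Presents.exists_hom {T : Type*} [Group T] {u h w : T} {rels : Finset (FreeGroup (Fin 3))}
    (hP : Presents u h w rels) {G : Type*} [Group G] (f : FreeGroup (Fin 3) →* G)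
    (hf : ∀ r ∈ rels, f r = 1) :
    ∃ π : T →* G, π u = f (FreeGroup.of 0) ∧ π h = f (FreeGroup.of 1) ∧
      π w = f (FreeGroup.of 2) := by
  obtain ⟨e, rfl, rfl, rfl⟩ := hP
  have hlift : FreeGroup.lift (fun i => f (FreeGroup.of i)) = f := FreeGroup.ext_hom _ _ (by simp)
  let φ : PresentedGroup (↑rels : Set (FreeGroup (Fin 3))) →* G :=
    PresentedGroup.toGroup (f := fun i => f (FreeGroup.of i)) fun r hr => by
      rw [hlift]; exact hf r hr
  exact ⟨φ.comp e.symm.toMonoidHom, by simp [φ], by simp [φ], by simp [φ]⟩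

/-- An order bound turns relations into a presentation. -/
theorem exists_presentation {T : Type*} [Group T] [Finite T] (u h w : T)
    (hgen : Subgroup.closure ({u, h, w} : Set T) = ⊤) (L : List (FreeGroup (Fin 3))) {k : ℕ}
    (hk : L.length ≤ k) (hT : ∀ r ∈ L, FreeGroup.lift ![u, h, w] r = 1)
    (hbound : ∀ (G : Type) (_ : Group G) (f : FreeGroup (Fin 3) →* G), Function.Surjective f →
      (∀ r ∈ L, f r = 1) → Finite G ∧ Nat.card G ≤ Nat.card T) :
    ∃ rels : Finset (FreeGroup (Fin 3)), rels.card ≤ k ∧ Presents u h w rels := by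
  classical
  refine ⟨L.toFinset, (List.toFinset_card_le L).trans hk, ?_⟩
  have hrels : ∀ r ∈ (↑L.toFinset : Set (FreeGroup (Fin 3))), FreeGroup.lift ![u, h, w] r = 1 :=
    fun r hr => hT r (List.mem_toFinset.1 hr)
  let φ : PresentedGroup (↑L.toFinset : Set (FreeGroup (Fin 3))) →* T := PresentedGroup.toGroup hrels
  have hsurj : Function.Surjective φ := by
    rw [← MonoidHom.range_eq_top, eq_top_iff, ← hgen, Subgroup.closure_le]
    rintro a (rfl | rfl | rfl)
    · exact ⟨PresentedGroup.of 0, by simp [φ]⟩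
    · exact ⟨PresentedGroup.of 1, by simp [φ]⟩
    · exact ⟨PresentedGroup.of 2, by simp [φ]⟩
  obtain ⟨hfin, hle⟩ := hbound _ inferInstance (PresentedGroup.mk _) (QuotientGroup.mk'_surjective _)
    (fun r hr => PresentedGroup.one_of_mem (List.mem_toFinset.2 hr))
  exact ⟨MulEquiv.ofBijective φ ((Nat.bijective_iff_surjective_and_card φ).2
    ⟨hsurj, le_antisymm hle (Nat.card_le_card_of_surjective φ hsurj)⟩),
    by simp [φ], by simp [φ], by simp [φ]⟩

/-- Generators of a group onto which the free group maps. -/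
theorem closure_eq_top_of_surjective {G : Type*} [Group G] (f : FreeGroup (Fin 3) →* G)
    (hf : Function.Surjective f) :
    Subgroup.closure ({f (FreeGroup.of 0), f (FreeGroup.of 1), f (FreeGroup.of 2)} : Set G) = ⊤ := by
  rw [eq_top_iff]
  intro a ha
  clear ha
  obtain ⟨r, rfl⟩ := hf a
  induction r using FreeGroup.induction_on with
  | C1 => rw [map_one]; exact Subgroup.one_mem _
  | of i =>
    refine Subgroup.subset_closure ?_
    fin_cases i <;> simp
  | inv_of i hi => rw [map_inv]; exact Subgroup.inv_mem _ hi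
  | mul x y hx hy => rw [map_mul]; exact Subgroup.mul_mem _ hx hy

end CfsgLib.SLTwoPresent
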