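import Cfsg.Agent.Lib.SLTwoPresent.Odd

/-!
Presentations of `PSL_2(q) = SL_2(q)`, `q` even, on three generators with five relations.
-/

set_option autoImplicit false

namespace CfsgLib.SLTwoPresent

open Polynomial

section Core

variable {G : Type*} [Group G] {F : Type*} [Field F] [Algebra (ZMod 2) F]

/-- The norm argument: with a trinomial relation, the minimal polynomial word is trivial. -/
theorem even_core (u h : G) (x : F) (b n : ℕ) (hn : Odd n)
    (hu : u * u = 1) (hrel : h ^ b * u * (h ^ b)⁻¹ = u * (h * u * h⁻¹))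
    (hyu : Commute (h ^ n) u) (hy2 : h ^ n * h ^ n = 1)
    (hm : word u h (minpoly (ZMod 2) x) = h ^ n)
    (hsurj : Function.Surjective (aeval x : (ZMod 2)[X] → F)) :
    h ^ n = 1 ∧ ∃ ψ : F → G, (∀ a c, ψ (a + c) = ψ a * ψ c) ∧ ψ 1 = u ∧
      ∀ t, h * ψ t * h⁻¹ = ψ (x * t) := by
  classical
  haveI : Fact (Nat.Prime 2) := ⟨Nat.prime_two⟩
  have hu2 : u ^ 2 = 1 := by rw [sq, hu]
  set s : ℕ → G := fun l => h ^ l * u * (h ^ l)⁻¹ with hs
  have hsinv : ∀ l, s l * s l = 1 := fun l => by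
    rw [← sq]; simp only [hs]; rw [pow_conj, hu2, mul_one, mul_inv_cancel]
  have hc1 : Commute u (h * u * h⁻¹) := by
    have h1 := hsinv b
    simp only [hs] at h1
    rw [hrel] at h1
    have h2 := hsinv 1
    simp only [hs, pow_one] at h2
    calc u * (h * u * h⁻¹) = (u * (h * u * h⁻¹))⁻¹ := eq_inv_of_mul_eq_one_left h1
      _ = h * u * h⁻¹ * u := by
        rw [mul_inv_rev, inv_eq_of_mul_eq_one_right hu, inv_eq_of_mul_eq_one_right h2]
  have hnd : ¬ 2 ∣ 1 := by norm_num
  have hcomm := commute_trinomial hu2 hc1 (Commute.pow_self h b) hnd hnd (by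
    rw [pow_one, pow_one]; exact hrel)
  -- the norm
  let U : Subgroup G := Subgroup.closure (Set.range s)
  have hU : IsMulCommutative U := Subgroup.isMulCommutative_closure (by
    rintro _ ⟨k, rfl⟩ _ ⟨l, rfl⟩
    have h1 := (commute_all_of_nat hcomm ((l : ℤ) - k)).map (MulAut.conj (h ^ k))
    simp only [MulAut.conj_apply] at h1
    rw [show h ^ k * (h ^ ((l : ℤ) - k) * u * (h ^ ((l : ℤ) - k))⁻¹) * (h ^ k)⁻¹ = s l by
      simp only [hs]; rw [zpow_sub, zpow_natCast, zpow_natCast]; group] at h1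
    exact h1.eq)
  have hwU : word u h (minpoly (ZMod 2) x) ∈ U := by
    refine Subgroup.list_prod_mem _ fun a ha => ?_
    obtain ⟨i, -, rfl⟩ := List.mem_map.1 ha
    exact U.pow_mem (Subgroup.subset_closure ⟨i, rfl⟩) _
  have hshift : ∀ l, h * s l * h⁻¹ = s (l + 1) := fun l => by
    simp only [hs]; rw [pow_succ']; group
  have hUh : ∀ a ∈ U, ∀ i : ℕ, h ^ i * a * (h ^ i)⁻¹ ∈ U := by
    intro a ha i
    have : U ≤ U.comap (MulAut.conj (h ^ i)).toMonoidHom := by
      rw [Subgroup.closure_le]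
      rintro _ ⟨k, rfl⟩
      refine Subgroup.subset_closure ⟨i + k, ?_⟩
      show s (i + k) = h ^ i * s k * (h ^ i)⁻¹
      simp only [hs]; rw [pow_add]; group
    exact this ha
  let inst : CommGroup U := { (inferInstance : Group U) with mul_comm := fun a b => mul_comm' a b }
  let θ : U →* U := MonoidHom.mk'
    (fun a => ∏ i ∈ Finset.range n, (⟨h ^ i * a * (h ^ i)⁻¹, hUh _ a.2 i⟩ : U)) (fun a c => by
      rw [← Finset.prod_mul_distrib]
      exact Finset.prod_congr rfl fun i _ => Subtype.ext (by simp [mul_assoc]))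
  let e : ℕ → U := fun l => ⟨s l, Subgroup.subset_closure ⟨l, rfl⟩⟩
  have hθe : ∀ l, θ (e l) = ∏ i ∈ Finset.range n, e (i + l) := fun l =>
    @Finset.prod_congr ℕ U (Finset.range n) (Finset.range n) _ _ _ rfl fun i _ => Subtype.ext (by
      show h ^ i * s l * (h ^ i)⁻¹ = s (i + l)
      simp only [hs]; rw [pow_add]; group)
  have hper : ∀ l, e (n + l) = e l := fun l => Subtype.ext (by
    show s (n + l) = s l
    simp only [hs]
    rw [add_comm, pow_add, show h ^ l * h ^ n * u * (h ^ l * h ^ n)⁻¹ =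
      h ^ l * (h ^ n * u * (h ^ n)⁻¹) * (h ^ l)⁻¹ by group, hyu.eq, mul_inv_cancel_right])
  have hconst : ∀ l, θ (e l) = θ (e 0) := by
    intro l
    induction l with
    | zero => rfl
    | succ l ih =>
      rw [← ih, hθe, hθe]
      have h1 := Finset.prod_range_succ (fun i => e (i + l)) n
      rw [Finset.prod_range_succ' (fun i => e (i + l)) n] at h1
      simp only [zero_add, hper, show ∀ i, i + 1 + l = i + (l + 1) by omega] at h1
      exact mul_right_cancel h1
  have he0 : θ (e 0) = 1 := by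
    have hb : e b = e 0 * e 1 := Subtype.ext (by
      show s b = s 0 * s 1
      simp only [hs]; rw [hrel]; simp)
    have h1 := congrArg θ hb
    rw [map_mul, hconst b, hconst 1] at h1
    exact left_eq_mul.1 h1
  have hθ : ∀ a : U, θ a = 1 := by
    intro a
    have : U ≤ θ.ker.map U.subtype := by
      rw [Subgroup.closure_le]
      rintro _ ⟨k, rfl⟩
      exact ⟨e k, (hconst k).trans he0, rfl⟩
    obtain ⟨c, hc, he⟩ := this a.2
    rw [show a = c from Subtype.ext he.symm]
    exact hc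
  have hy : h ^ n = 1 := by
    have hyU : h ^ n ∈ U := hm ▸ hwU
    have h1 := congrArg Subtype.val (hθ ⟨_, hyU⟩)
    simp only [θ, MonoidHom.mk'_apply, Subgroup.coe_one] at h1
    have h2 : ∀ i ∈ Finset.range n, (⟨h ^ i * h ^ n * (h ^ i)⁻¹, hUh _ hyU i⟩ : U) = ⟨_, hyU⟩ :=
      fun i _ => Subtype.ext (by
        show h ^ i * h ^ n * (h ^ i)⁻¹ = h ^ n
        rw [← pow_add, add_comm, pow_add, mul_inv_cancel_right])
    rw [Finset.prod_congr rfl h2, Finset.prod_const, Finset.card_range, Subgroup.coe_pow] at h1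
    obtain ⟨k, rfl⟩ := hn
    rw [pow_succ, pow_mul, sq, hy2, one_pow, one_mul] at h1
    exact h1
  obtain ⟨ψ, h1, h2, h3, -, -⟩ := exists_param (p := 2) u h h x x hu2 hcomm (Commute.refl h) hsurj X
    (aeval_X x) (by simp [word, natDegree_X, List.range_succ, coeff_X, ZMod.val_one])
    (Or.inl (hm.trans hy))
  exact ⟨hy, ψ, h1, h2, h3⟩

end Core

/-- The order bound from the derived relations. -/
theorem even_finish {G : Type*} [Group G] {F : Type*} [Field F] [Fintype F] [CharP F 2]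
    {u h w : G} {x : F} {n : ℕ} (hn : 0 < n) (hx0 : x ≠ 0)
    (hgen : ∀ t : F, t ≠ 0 → ∃ i : ℕ, t = x ^ i)
    (hcl : Subgroup.closure ({u, h, w} : Set G) = ⊤)
    (ψ : F → G) (hadd : ∀ a c, ψ (a + c) = ψ a * ψ c) (hψ1 : ψ 1 = u)
    (hψh : ∀ t, h * ψ t * h⁻¹ = ψ (x * t))
    (hinv : w * h * w⁻¹ = h⁻¹) (hpow : h ^ n = 1) (hww : w * w = 1) (hu : u * u = 1)
    (huw : (u * w) ^ 3 = 1) :
    Finite G ∧ Nat.card G ≤ n * (Fintype.card F * (Fintype.card F + 1)) := by
  have hB : w * ψ 1 * w = ψ (-(1 : F)⁻¹) * h ^ (0 : ℤ) * w * ψ (-(1 : F)⁻¹) := by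
    rw [inv_one, CharTwo.neg_eq, zpow_zero, mul_one, hψ1]
    calc w * u * w = u⁻¹ * (u * w) ^ 3 * w⁻¹ * u⁻¹ := by
          simp only [pow_succ, pow_zero, one_mul]; group
      _ = _ := by
          rw [huw, inv_eq_of_mul_eq_one_right hu, inv_eq_of_mul_eq_one_right hww, mul_one]
  have D : Bruhat ψ h w x n := ⟨hadd, hx0, hψh, hinv, hn, hpow, ⟨0, by rw [hww, zpow_zero]⟩,
    fun t ht => by
      obtain ⟨i, rfl⟩ := hgen t ht
      simpa using step_orbit hx0 hψh hinv hB i⟩
  exact D.card_le (by rw [hψ1]; exact hcl)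

variable {F : Type*} [Field F] [Fintype F] [Algebra (ZMod 2) F] [CharP F 2]

local notation "FU" => FreeGroup.of (0 : Fin 3)
local notation "FH" => FreeGroup.of (1 : Fin 3)
local notation "FW" => FreeGroup.of (2 : Fin 3)
local notation "SL2" => Matrix.SpecialLinearGroup (Fin 2) F

theorem exists_even_data :
    ∃ (ω : Fˣ) (n : ℕ), Fintype.card F = n + 1 ∧ 0 < n ∧ Odd n ∧ ω ^ n = 1 ∧
      orderOf ((ω : F) ^ 2) = n ∧ ∀ t : F, t ≠ 0 → ∃ i : ℕ, t = ((ω : F) ^ 2) ^ i := by
  obtain ⟨ω, hord, hgenω⟩ := exists_omega (F := F)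
  obtain ⟨e, -, he⟩ := FiniteField.card F 2
  obtain ⟨n, hn⟩ : ∃ n, Fintype.card F = n + 1 := ⟨Fintype.card F - 1, by
    have := Fintype.one_lt_card (α := F); omega⟩
  rw [hn, Nat.add_sub_cancel] at hord
  have hn0 : 0 < n := by have := Fintype.one_lt_card (α := F); omega
  have hodd : Odd n := by
    rcases Nat.even_or_odd n with h | h
    · exfalso
      have h1 : Odd (Fintype.card F) := hn ▸ h.add_one
      rw [he] at h1
      exact (Nat.not_odd_iff_even.2 ((Nat.even_pow' e.ne_zero).2 even_two)) h1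
    · exact h
  refine ⟨ω, n, hn, hn0, hodd, by rw [← hord]; exact pow_orderOf_eq_one ω, ?_, fun t ht => ?_⟩
  · rw [orderOf_pow' _ (by norm_num), orderOf_units, hord,
      Nat.coprime_iff_gcd_eq_one.1 (Nat.coprime_two_right.2 hodd), Nat.div_one]
  · obtain ⟨j, rfl⟩ := hgenω t ht
    obtain ⟨k, hk⟩ := hodd
    refine ⟨j * (k + 1), ?_⟩
    rw [← pow_mul, show 2 * (j * (k + 1)) = j + j * n by rw [hk]; ring, pow_add, mul_comm j n,
      pow_mul, ← Units.val_pow_eq_pow_val ω n, ← hord, pow_orderOf_eq_one, Units.val_one, one_pow,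
      mul_one]

theorem closure_top_uu {x : F} (hgen : ∀ t : F, t ≠ 0 → ∃ i : ℕ, t = x ^ i) (ω : Fˣ)
    (hx : x = (ω : F) ^ 2) :
    Subgroup.closure ({uu 1, dd ω, ww} : Set SL2) = ⊤ := by
  refine eq_top_of_uu (fun t => ?_) (Subgroup.subset_closure (by simp))
  rcases eq_or_ne t 0 with rfl | ht
  · rw [uu_zero]; exact Subgroup.one_mem _
  · obtain ⟨i, rfl⟩ := hgen t ht
    have h1 := dd_pow_conj ω i (1 : F)
    rw [mul_one, ← hx] at h1
    rw [← h1]
    have hu : uu (1 : F) ∈ Subgroup.closure ({uu 1, dd ω, ww} : Set SL2) :=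
      Subgroup.subset_closure (by simp)
    have hd : dd ω ∈ Subgroup.closure ({uu 1, dd ω, ww} : Set SL2) :=
      Subgroup.subset_closure (by simp)
    exact Subgroup.mul_mem _ (Subgroup.mul_mem _ (Subgroup.pow_mem _ hd _) hu)
      (Subgroup.inv_mem _ (Subgroup.pow_mem _ hd _))

/-- `SL_2(q)`, `q` even, has a presentation with three generators and five relations. -/
theorem even_main : ∃ ω : Fˣ, (∀ t : F, t ≠ 0 → ∃ j : ℕ, t = (ω : F) ^ j) ∧
    ∃ rels : Finset (FreeGroup (Fin 3)), rels.card ≤ 5 ∧ Presents (uu (1 : F)) (dd ω) ww rels := by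
  classical
  haveI : Fact (Nat.Prime 2) := ⟨Nat.prime_two⟩
  obtain ⟨ω, n, hq, hn0, hodd, hωn, hxord, hgen⟩ := exists_even_data (F := F)
  refine ⟨ω, fun t ht => (hgen t ht).elim fun i hi => ⟨2 * i, by rw [hi, pow_mul]⟩, ?_⟩
  set x : F := (ω : F) ^ 2 with hxdef
  have hx0 : x ≠ 0 := pow_ne_zero _ ω.ne_zero
  have hxn : x ^ n = 1 := by rw [← hxord]; exact pow_orderOf_eq_one x
  have hcl := closure_top_uu hgen ω rfl
  have hcard : Nat.card SL2 = n * (Fintype.card F * (Fintype.card F + 1)) := by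
    rw [CfsgLib.ClassicalGroups.slTwo_card, hq, Nat.add_sub_cancel]; ring
  have hU2 : uu (1 : F) * uu 1 = 1 := by rw [← uu_add, CharTwo.add_self_eq_zero, uu_zero]
  have hW2 : (ww : SL2) * ww = 1 := by
    rw [ww_sq, show (-1 : Fˣ) = 1 from Units.ext (by simp [CharTwo.neg_eq]), dd_one]
  have hHn : dd ω ^ n = (1 : SL2) := by rw [← dd_pow, hωn, dd_one]
  have hWHW : (ww : SL2) * dd ω * (ww : SL2)⁻¹ * dd ω = 1 := by rw [ww_conj, inv_mul_cancel]
  have hUW : (uu (1 : F) * ww) ^ 3 = 1 := by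
    have h1 := step (1 : F) one_ne_zero
    rw [show Units.mk0 (-(1 : F)⁻¹) (by simp) = 1 from Units.ext (by simp [CharTwo.neg_eq]),
      dd_one, mul_one, inv_one, CharTwo.neg_eq] at h1
    calc (uu (1 : F) * ww) ^ 3 = uu 1 * (ww * uu 1 * ww) * uu 1 * ww := by
          simp only [pow_succ, pow_zero, one_mul, mul_assoc]
      _ = (uu 1 * uu 1) * ww * (uu 1 * uu 1) * ww := by rw [h1]; group
      _ = 1 := by rw [hU2, one_mul, mul_one, hW2]
  have hconjT : ∀ k : ℕ, dd ω ^ k * uu 1 * (dd ω ^ k)⁻¹ = uu (x ^ k) := fun k => by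
    rw [dd_pow_conj, mul_one]
  rcases le_or_gt n 1 with hn1 | hn1
  · -- two elements
    obtain rfl : n = 1 := by omega
    have hx1 : x = 1 := by simpa using hxn
    refine exists_presentation (uu 1) (dd ω) ww hcl [FU * FU, FW * FW, (FU * FW) ^ 3, FH]
      (k := 5) (by simp) ?_ ?_
    · intro r hr
      simp only [List.mem_cons, List.not_mem_nil, or_false] at hr
      rcases hr with rfl | rfl | rfl | rfl <;>
        simp only [map_mul, map_pow, FreeGroup.lift_apply_of]
      · exact hU2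
      · exact hW2
      · exact hUW
      · simpa using hHn
    · intro G _ f hf hrel
      simp only [List.mem_cons, List.not_mem_nil, or_false, forall_eq_or_imp, forall_eq] at hrel
      obtain ⟨hu, hw, huw, hh⟩ := hrel
      rw [map_mul] at hu hw
      rw [map_pow, map_mul] at huw
      rw [hcard]
      have h01 : ∀ t : F, t = 0 ∨ t = 1 := fun t => by
        rcases eq_or_ne t 0 with h | h
        · exact Or.inl h
        · obtain ⟨i, hi⟩ := hgen t h
          exact Or.inr (by rw [hi, hx1, one_pow])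
      refine even_finish one_pos hx0 hgen (closure_eq_top_of_surjective f hf)
        (fun t => if t = 0 then 1 else f FU) (fun a c => ?_) (if_neg one_ne_zero) (fun t => ?_)
        ?_ (by rw [hh, one_pow]) hw hu huw
      · rcases h01 a with rfl | rfl <;> rcases h01 c with rfl | rfl <;>
          simp [CharTwo.add_self_eq_zero, hu]
      · rw [hh, hx1]; simp
      · rw [hh]; simp
  have hxne : ∀ k : ℕ, 0 < k → k < n → x ^ k ≠ 1 := fun k hk hkn h => by
    have := Nat.le_of_dvd hk (hxord ▸ orderOf_dvd_of_pow_eq_one h)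
    omega
  have hsum : ∀ a c : F, a ≠ c → a + c ≠ 0 := fun a c hac h => hac (by
    rwa [add_eq_zero_iff_eq_neg, CharTwo.neg_eq] at h)
  have hx1 : x ≠ 1 := by simpa using hxne 1 one_pos hn1
  obtain ⟨b, hb⟩ := hgen (1 + x) (hsum _ _ (Ne.symm hx1))
  have hsurj := surjective_of_orderOf (p := 2) hxord hn0 (by omega)
  have hR3 : FreeGroup.lift ![uu 1, dd ω, ww]
      (FH ^ b * FU * (FH ^ b)⁻¹ * (FU * (FH * FU * FH⁻¹))⁻¹) = (1 : SL2) := by
    simp only [map_mul, map_inv, map_pow, FreeGroup.lift_apply_of, mul_inv_eq_one]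
    show dd ω ^ b * uu 1 * (dd ω ^ b)⁻¹ = uu 1 * (dd ω * uu 1 * (dd ω)⁻¹)
    rw [hconjT, dd_conj, mul_one, ← uu_add, ← hxdef, hb]
  have hrelpoly : aeval x (minpoly (ZMod 2) x) = 0 := minpoly.aeval _ _
  by_cases hn4 : n = 3
  · -- four elements
    subst hn4
    have hx2 : x ^ 2 = 1 + x := by
      have h3 : (x + 1) * (x ^ 2 + x + 1) = 0 := by
        have : (x + 1) * (x ^ 2 + x + 1) = x ^ 3 + 1 + 2 * (x ^ 2 + x) := by ring
        rw [this, hxn, CharTwo.two_eq_zero, zero_mul, add_zero, CharTwo.add_self_eq_zero]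
      have h4 := (mul_eq_zero.1 h3).resolve_left (hsum _ _ hx1)
      rw [add_assoc, add_eq_zero_iff_eq_neg, CharTwo.neg_eq, add_comm x] at h4
      exact h4
    have hm : minpoly (ZMod 2) x = X ^ 2 + X + 1 := by
      have hint : IsIntegral (ZMod 2) x := IsIntegral.of_finite _ _
      refine (eq_of_monic_of_dvd_of_natDegree_le (minpoly.monic hint) (by monicity!)
        (minpoly.dvd _ _ ?_) ?_).symm
      · simp only [map_add, map_pow, aeval_X, map_one]
        rw [hx2, show 1 + x + x + 1 = 2 * (1 + x) by ring, CharTwo.two_eq_zero, zero_mul]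
      · have hd : (X ^ 2 + X + 1 : (ZMod 2)[X]).natDegree = 2 := by compute_degree!
        rw [hd]
        refine minpoly.two_le_natDegree_iff hint |>.2 ?_
        rintro ⟨r, hr⟩
        fin_cases r
        · exact hx0 (hr.symm.trans (map_zero _))
        · exact hx1 (hr.symm.trans (map_one _))
    refine exists_presentation (uu 1) (dd ω) ww hcl
      [FU * FU, FW * FW * (FH ^ 3)⁻¹, FW * FH * FW⁻¹ * FH, (FU * FW) ^ 3,
        FH ^ 2 * FU * (FH ^ 2)⁻¹ * (FU * (FH * FU * FH⁻¹))⁻¹] (k := 5) (by simp) ?_ ?_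
    · intro r hr
      simp only [List.mem_cons, List.not_mem_nil, or_false] at hr
      rcases hr with rfl | rfl | rfl | rfl | rfl <;>
        simp only [map_mul, map_inv, map_pow, FreeGroup.lift_apply_of]
      · exact hU2
      · show (ww : SL2) * ww * (dd ω ^ 3)⁻¹ = 1
        rw [hW2, hHn, inv_one, one_mul]
      · exact hWHW
      · exact hUW
      · rw [mul_inv_eq_one]
        show dd ω ^ 2 * uu 1 * (dd ω ^ 2)⁻¹ = uu 1 * (dd ω * uu 1 * (dd ω)⁻¹)
        rw [hconjT, dd_conj, mul_one, ← uu_add, ← hxdef, hx2]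
    · intro G _ f hf hrel
      simp only [List.mem_cons, List.not_mem_nil, or_false, forall_eq_or_imp, forall_eq, map_mul,
        map_inv, map_pow, mul_inv_eq_one] at hrel
      obtain ⟨hu, hw, hinv, huw, h2⟩ := hrel
      rw [mul_eq_one_iff_eq_inv] at hinv
      set u := f FU
      set h := f FH
      set w := f FW
      have hu2 : u ^ 2 = 1 := by rw [sq, hu]
      set u1 := h * u * h⁻¹ with hu1def
      have hu1 : u1 * u1 = 1 := by
        rw [← sq, hu1def, pow_conj, hu2, mul_one, mul_inv_cancel]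
      have hc1 : Commute u u1 := by
        have h1 : (h ^ 2 * u * (h ^ 2)⁻¹) ^ 2 = 1 := by
          rw [pow_conj, hu2, mul_one, mul_inv_cancel]
        rw [h2, sq] at h1
        calc u * u1 = (u * u1)⁻¹ := eq_inv_of_mul_eq_one_left h1
          _ = u1 * u := by
            rw [mul_inv_rev, inv_eq_of_mul_eq_one_right hu, inv_eq_of_mul_eq_one_right hu1]
      -- `h³` is central
      have hzu : h ^ 3 * u * (h ^ 3)⁻¹ = u := by
        calc h ^ 3 * u * (h ^ 3)⁻¹ = h * (h ^ 2 * u * (h ^ 2)⁻¹) * h⁻¹ := by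
              rw [pow_succ']; group
          _ = u1 * (h ^ 2 * u * (h ^ 2)⁻¹) := by nth_rewrite 1 [h2]; rw [hu1def, sq]; group
          _ = u := by rw [h2, hc1.eq, ← mul_assoc, hu1, one_mul]
      have hzw : w * h ^ 3 * w⁻¹ = h ^ 3 := by rw [← hw]; group
      have hz2 : h ^ 3 * h ^ 3 = 1 := by
        have h1 : MulAut.conj w (h ^ 3) = (h ^ 3)⁻¹ := by
          rw [map_pow, MulAut.conj_apply, hinv, inv_pow]
        rw [MulAut.conj_apply, hzw] at h1
        exact mul_eq_one_iff_eq_inv.2 h1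
      have hz : h ^ 3 = 1 := by
        have h1 : u * w * u * w * u = w⁻¹ := by
          rw [eq_inv_iff_mul_eq_one, ← huw]
          simp only [pow_succ, pow_zero, one_mul, mul_assoc]
        have hzuc : u * h ^ 3 = h ^ 3 * u := (mul_inv_eq_iff_eq_mul.1 hzu).symm
        have hzwc : w * h ^ 3 = h ^ 3 * w := mul_inv_eq_iff_eq_mul.1 hzw
        have h3 : (u * w * u * w * u) * (u * w * u * w * u) = 1 := by
          calc (u * w * u * w * u) * (u * w * u * w * u)
              = u * w * u * (w * (u * u) * w) * u * w * u := by group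
            _ = u * w * u * h ^ 3 * u * w * u := by rw [hu, mul_one, hw]
            _ = u * (w * (u * h ^ 3 * u) * w) * u := by group
            _ = u * (w * h ^ 3 * w) * u := by rw [hzuc, mul_assoc (h ^ 3), hu, mul_one]
            _ = u * (h ^ 3 * (w * w)) * u := by rw [hzwc]; group
            _ = 1 := by rw [hw, hz2, mul_one, hu]
        rw [h1, ← mul_inv_rev, inv_eq_one, hw] at h3
        exact h3
      have hnd : ¬ 2 ∣ 1 := by norm_num
      have hcomm := commute_trinomial (p := 2) hu2 hc1 (Commute.pow_self h 2) hnd hnd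
        (by rw [pow_one, pow_one]; exact h2)
      have hword : word u h (minpoly (ZMod 2) x) = 1 := by
        rw [hm, word, show (X ^ 2 + X + 1 : (ZMod 2)[X]).natDegree = 2 by compute_degree!]
        simp [List.range_succ, coeff_X, coeff_one, coeff_X_pow, ZMod.val_one]
        rw [h2]
        show u * (u1 * (u * u1)) = 1
        rw [show u1 * (u * u1) = u1 * u * u1 from (mul_assoc _ _ _).symm, ← hc1.eq,
          mul_assoc u u1 u1, hu1, mul_one, hu]
      obtain ⟨ψ, h4, h5, h6, -, -⟩ := exists_param (p := 2) u h h x x hu2 hcomm (Commute.refl h)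
        hsurj X (aeval_X x) (by simp [word, natDegree_X, List.range_succ, coeff_X, ZMod.val_one])
        (Or.inl hword)
      rw [hcard]
      exact even_finish hn0 hx0 hgen (closure_eq_top_of_surjective f hf) ψ h4 h5 h6 hinv hz
        (hw.trans hz) hu huw
  -- at least eight elements
  have hn5 : 5 ≤ n := by obtain ⟨k, rfl⟩ := hodd; omega
  refine exists_presentation (uu 1) (dd ω) ww hcl
    [FU * FU * (FW * FW)⁻¹, FW * FH * FW⁻¹ * FH, FH ^ n * ((FU * FW) ^ 3)⁻¹,
      FH ^ b * FU * (FH ^ b)⁻¹ * (FU * (FH * FU * FH⁻¹))⁻¹,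
      word FU FH (minpoly (ZMod 2) x) * (FH ^ n)⁻¹] (k := 5) (by simp) ?_ ?_
  · intro r hr
    simp only [List.mem_cons, List.not_mem_nil, or_false] at hr
    rcases hr with rfl | rfl | rfl | rfl | rfl
    · simp only [map_mul, map_inv, FreeGroup.lift_apply_of]
      show uu (1 : F) * uu 1 * (ww * ww)⁻¹ = 1
      rw [hU2, hW2, inv_one, one_mul]
    · simp only [map_mul, map_inv, FreeGroup.lift_apply_of]
      exact hWHW
    · simp only [map_mul, map_inv, map_pow, FreeGroup.lift_apply_of]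
      show dd ω ^ n * ((uu (1 : F) * ww) ^ 3)⁻¹ = 1
      rw [hHn, hUW, inv_one, one_mul]
    · exact hR3
    · rw [map_mul, map_inv, map_pow, map_word, FreeGroup.lift_apply_of, FreeGroup.lift_apply_of]
      show word (uu 1) (dd ω) (minpoly (ZMod 2) x) * (dd ω ^ n)⁻¹ = 1
      have h1 := word_map_uu (MonoidHom.id SL2) ω 1 (minpoly (ZMod 2) x)
      simp only [MonoidHom.id_apply, pow_one] at h1
      rw [h1, ← hxdef, hrelpoly, uu_zero, hHn, inv_one, one_mul]
  · intro G _ f hf hrel
    simp only [List.mem_cons, List.not_mem_nil, or_false, forall_eq_or_imp, forall_eq, map_mul,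
      map_inv, map_pow, map_word, mul_inv_eq_one] at hrel
    obtain ⟨hz, hinv, hy, hb', hm⟩ := hrel
    rw [mul_eq_one_iff_eq_inv] at hinv
    set u := f FU
    set h := f FH
    set w := f FW
    have hclG := closure_eq_top_of_surjective f hf
    -- `y = hⁿ` is central of order at most two
    have hwy : w * h ^ n * w⁻¹ = (h ^ n)⁻¹ := by
      rw [← MulAut.conj_apply, map_pow, MulAut.conj_apply, hinv, inv_pow]
    have huy : u * h ^ n * u⁻¹ = (h ^ n)⁻¹ := by
      have hc : (u * w) * h ^ n * (u * w)⁻¹ = h ^ n := by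
        rw [hy, ← pow_succ', pow_succ, mul_inv_cancel_right]
      rw [show u * w * h ^ n * (u * w)⁻¹ = u * (w * h ^ n * w⁻¹) * u⁻¹ by group, hwy] at hc
      calc u * h ^ n * u⁻¹ = (u * (h ^ n)⁻¹ * u⁻¹)⁻¹ := by group
        _ = _ := by rw [hc]
    have hsy : ∀ k : ℕ, (h ^ k * u * (h ^ k)⁻¹) * h ^ n * (h ^ k * u * (h ^ k)⁻¹)⁻¹ = (h ^ n)⁻¹ := by
      intro k
      have hk : Commute (h ^ k) (h ^ n) := Commute.pow_pow (Commute.refl h) k n
      rw [show h ^ k * u * (h ^ k)⁻¹ * h ^ n * (h ^ k * u * (h ^ k)⁻¹)⁻¹ =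
        h ^ k * (u * ((h ^ k)⁻¹ * h ^ n * h ^ k) * u⁻¹) * (h ^ k)⁻¹ by group,
        show (h ^ k)⁻¹ * h ^ n * h ^ k = h ^ n by rw [mul_assoc, ← hk.eq, inv_mul_cancel_left],
        huy, hk.inv_right.eq, mul_inv_cancel_right]
    have hy2 : h ^ n * h ^ n = 1 := by
      have h1 := hsy b
      rw [hb', show u * (h * u * h⁻¹) * h ^ n * (u * (h * u * h⁻¹))⁻¹ =
        u * ((h * u * h⁻¹) * h ^ n * (h * u * h⁻¹)⁻¹) * u⁻¹ by group] at h1
      have h2 := hsy 1
      rw [pow_one] at h2
      rw [h2, show u * (h ^ n)⁻¹ * u⁻¹ = (u * h ^ n * u⁻¹)⁻¹ by group, huy, inv_inv] at h1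
      exact mul_eq_one_iff_eq_inv.2 h1
    have hyu : Commute (h ^ n) u := by
      rw [inv_eq_of_mul_eq_one_right hy2, mul_inv_eq_iff_eq_mul] at huy
      exact huy.symm
    -- `z = u² = w²` is central
    have hzc : u * u ∈ Subgroup.center G := by
      rw [← Subgroup.centralizer_univ, ← Subgroup.coe_top, ← hclG, Subgroup.centralizer_closure,
        Subgroup.mem_centralizer_iff]
      have hzh : h * (u * u) = (u * u) * h := by
        rw [hz]
        have h1 : (w * w) * h * (w * w)⁻¹ = h := by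
          rw [show w * w * h * (w * w)⁻¹ = w * (w * h * w⁻¹) * w⁻¹ by group, hinv,
            show w * h⁻¹ * w⁻¹ = (w * h * w⁻¹)⁻¹ by group, hinv, inv_inv]
        exact ((mul_inv_eq_iff_eq_mul).1 h1).symm
      rintro a (rfl | rfl | rfl)
      · exact (mul_assoc _ _ _).symm
      · first | exact hzh | exact hzh.symm
      · rw [hz]; exact (mul_assoc _ _ _).symm
    have hzcomm : ∀ a, a * (u * u) = (u * u) * a := Subgroup.mem_center_iff.1 hzc
    set s : ℕ → G := fun k => h ^ k * u * (h ^ k)⁻¹ with hs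
    have hssq : ∀ k, s k * s k = u * u := fun k => by
      simp only [hs]
      rw [← sq, pow_conj, sq, hzcomm, mul_inv_cancel_right]
    have hs1 : s 1 = h * u * h⁻¹ := by simp [hs]
    have hsb : s b = u * s 1 := by rw [hs1]; exact hb'
    have hz2 : (u * u) * (u * u) = 1 := by
      have h1 : u * s 1 * (u * s 1) = u * u := by rw [← hsb, hssq]
      have h2 : s 1 * (u * s 1) = u := by
        rw [mul_assoc] at h1; exact mul_left_cancel h1
      have h3 : u * s 1 * u⁻¹ = (s 1)⁻¹ := by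
        calc u * s 1 * u⁻¹ = (s 1)⁻¹ * (s 1 * (u * s 1)) * u⁻¹ := by group
          _ = _ := by rw [h2, mul_inv_cancel_right]
      have h4 : MulAut.conj u (s 1 * s 1) = ((s 1) * (s 1))⁻¹ := by
        rw [map_mul, MulAut.conj_apply, h3]
        exact (mul_inv_rev _ _).symm
      rw [hssq, MulAut.conj_apply, hzcomm, mul_inv_cancel_right] at h4
      exact mul_eq_one_iff_eq_inv.2 h4
    haveI hZn : (Subgroup.zpowers (u * u)).Normal := ⟨fun a ha g => by
      obtain ⟨k, rfl⟩ := ha
      have hk : (u * u) ^ k ∈ Subgroup.center G := Subgroup.zpow_mem _ hzc k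
      rw [Subgroup.mem_center_iff.1 hk g, mul_inv_cancel_right]
      exact ⟨k, rfl⟩⟩
    set π := QuotientGroup.mk' (Subgroup.zpowers (u * u)) with hπ
    have hπz : π u * π u = 1 := by
      exact (map_mul π u u).symm.trans ((QuotientGroup.eq_one_iff _).2 (Subgroup.mem_zpowers _))
    obtain ⟨-, ψ, hψa, hψ1, hψh⟩ := even_core (π u) (π h) x b n hodd hπz
      (by simpa using congrArg π hb') (by simpa using hyu.map π) (by simpa using congrArg π hy2)
      (by simpa [map_word] using congrArg π hm) hsurj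
    have hψk : ∀ k : ℕ, ψ (x ^ k) = π (s k) := by
      intro k
      induction k with
      | zero => simp [hs, hψ1]
      | succ k ih =>
        rw [pow_succ' x, ← hψh, ih]
        simp only [hs, pow_succ', map_mul, map_inv, mul_inv_rev, mul_assoc]
    have hprod : ∀ i j : ℕ, x ^ i ≠ x ^ j →
        ∃ k : ℕ, x ^ k = x ^ i + x ^ j ∧ ∃ c ∈ Subgroup.zpowers (u * u), s i * s j = s k * c := by
      intro i j hij
      obtain ⟨k, hk⟩ := hgen _ (hsum _ _ hij)
      refine ⟨k, hk.symm, (s k)⁻¹ * (s i * s j), ?_, (mul_inv_cancel_left _ _).symm⟩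
      rw [← QuotientGroup.eq_one_iff]
      show π _ = 1
      rw [map_mul π (s k)⁻¹ (s i * s j), map_inv π (s k), map_mul π (s i) (s j), ← hψk, ← hψk, ← hψk, ← hψa, ← hk, inv_mul_cancel]
    have hanti : ∀ i j : ℕ, x ^ i ≠ x ^ j → s i * s j = s j * s i * (u * u) := by
      intro i j hij
      obtain ⟨k, -, c, hc, he⟩ := hprod i j hij
      obtain ⟨r, rfl⟩ := hc
      have hcc : (u * u) ^ r * (u * u) ^ r = 1 := by
        rw [← zpow_add, ← two_mul, zpow_mul, zpow_two, hz2, one_zpow]
      have hkc : s k * (u * u) ^ r = (u * u) ^ r * s k :=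
        Subgroup.mem_center_iff.1 (Subgroup.zpow_mem _ hzc r) _
      have h1 : s i * s j * (s i * s j) = u * u := by
        rw [he]
        calc s k * (u * u) ^ r * (s k * (u * u) ^ r)
            = s k * ((u * u) ^ r * s k) * (u * u) ^ r := by group
          _ = s k * s k * ((u * u) ^ r * (u * u) ^ r) := by rw [← hkc]; group
          _ = _ := by rw [hcc, mul_one, hssq]
      have hi' : (s i)⁻¹ = s i * (u * u) := inv_eq_of_mul_eq_one_right (by
        rw [← mul_assoc, hssq, hz2])
      have hj' : (s j)⁻¹ = s j * (u * u) := inv_eq_of_mul_eq_one_right (by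
        rw [← mul_assoc, hssq, hz2])
      calc s i * s j = (u * u) * ((s j)⁻¹ * (s i)⁻¹) := by
            conv_rhs => rw [← h1]
            group
        _ = (u * u) * (s j * (u * u) * s i * (u * u)) := by rw [hi', hj']; group
        _ = (u * u) * (u * u) * (s j * s i) * (u * u) := by rw [hzcomm (s j)]; group
        _ = _ := by rw [hz2, one_mul]
    have hzone : u * u = 1 := by
      have hne : ∀ i j : ℕ, i < j → j < n → x ^ i ≠ x ^ j := fun i j hij hjn h => by
        refine hxne (j - i) (by omega) (by omega) ?_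
        apply mul_left_cancel₀ (pow_ne_zero i hx0)
        rw [← pow_add, Nat.add_sub_cancel' hij.le, mul_one, h]
      obtain ⟨k, hk, c, hc, he⟩ := hprod 1 2 (hne 1 2 (by omega) (by omega))
      have h0k : x ^ 0 ≠ x ^ k := by
        intro h
        rw [hk, pow_zero, pow_one] at h
        refine hxne 3 (by norm_num) (by omega) ?_
        calc x ^ 3 = (x + 1) * (x + x ^ 2 + 1) + 1 - 2 * (x ^ 2 + x + 1) := by ring
          _ = 1 := by rw [← h, CharTwo.add_self_eq_zero, mul_zero, CharTwo.two_eq_zero]; ring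
      obtain ⟨r, rfl⟩ := hc
      have hc' : s 0 * (u * u) ^ r = (u * u) ^ r * s 0 :=
        Subgroup.mem_center_iff.1 (Subgroup.zpow_mem _ hzc r) _
      have h1 : s 0 * (s 1 * s 2) = s 1 * s 2 * s 0 * (u * u) := by
        rw [he, ← mul_assoc, hanti 0 k h0k]
        calc s k * s 0 * (u * u) * (u * u) ^ r = s k * (s 0 * (u * u) ^ r) * (u * u) := by
              rw [mul_assoc (s k * s 0), show (u * u) * (u * u) ^ r = (u * u) ^ r * (u * u) from
                ((Commute.refl (u * u)).zpow_right r).eq]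
              group
          _ = s k * (u * u) ^ r * s 0 * (u * u) := by rw [hc']; group
      have h2 : s 0 * (s 1 * s 2) = s 1 * s 2 * s 0 := by
        calc s 0 * (s 1 * s 2) = s 0 * s 1 * s 2 := (mul_assoc _ _ _).symm
          _ = s 1 * (s 0 * (u * u)) * s 2 := by rw [hanti 0 1 (hne 0 1 (by omega) (by omega))]; group
          _ = s 1 * ((u * u) * (s 0 * s 2)) := by rw [hzcomm (s 0)]; group
          _ = s 1 * ((u * u) * (s 2 * s 0) * (u * u)) := by
              rw [hanti 0 2 (hne 0 2 (by omega) (by omega))]; group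
          _ = _ := by rw [← hzcomm (s 2 * s 0), mul_assoc (s 2 * s 0), hz2, mul_one, ← mul_assoc (s 1) (s 2) (s 0)]
      rw [h2] at h1
      exact left_eq_mul.1 h1
    obtain ⟨hy1, ψ', h4, h5, h6⟩ := even_core u h x b n hodd hzone hb' hyu hy2 hm hsurj
    rw [hcard]
    exact even_finish hn0 hx0 hgen hclG ψ' h4 h5 h6 hinv hy1 (hz.symm.trans hzone) hzone
      (hy.symm.trans hy1)

end CfsgLib.SLTwoPresent
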