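import Cfsg.Agent.Lib.SLTwoPresent.Bruhat
import Cfsg.Agent.Lib.SLTwoPresent.Arith
import Cfsg.Agent.Lib.SLTwoPresent.Target
import Cfsg.Agent.Lib.ClassicalGroups.SLTwoSylow
import Cfsg.Agent.Classical.SLBasic

/-!
Presentations of `SL_2(q)` and `PSL_2(q)`, `q` odd, on three generators with nine relations.
-/

set_option autoImplicit false
set_option linter.unusedSectionVars false

namespace CfsgLib.SLTwoPresent

open Polynomial

variable {F : Type*} [Field F]

/-- Spreading the Bruhat relation along an orbit of the torus. -/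
theorem step_orbit {G : Type*} [Group G] {ψ : F → G} {h w : G} {x : F} (hx : x ≠ 0)
    (hconj : ∀ t, h * ψ t * h⁻¹ = ψ (x * t)) (hinv : w * h * w⁻¹ = h⁻¹) {r : F} {k : ℤ}
    (hr : w * ψ r * w = ψ (-r⁻¹) * h ^ k * w * ψ (-r⁻¹)) (i : ℕ) :
    ∃ j : ℤ, w * ψ (x ^ i * r) * w =
      ψ (-(x ^ i * r)⁻¹) * h ^ j * w * ψ (-(x ^ i * r)⁻¹) := by
  induction i with
  | zero => exact ⟨k, by simpa using hr⟩
  | succ i ih =>
    obtain ⟨j, hj⟩ := ih
    refine ⟨j - 2, ?_⟩
    set t := x ^ i * r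
    have hwh : w * h = h⁻¹ * w := by rw [← hinv, inv_mul_cancel_right]
    have hwh' : h⁻¹ * w = w * h := hwh.symm
    have hh : h⁻¹ * ψ (-t⁻¹) * h = ψ (-(x * t)⁻¹) := by
      have h1 := hconj (-(x * t)⁻¹)
      rw [show x * -(x * t)⁻¹ = -t⁻¹ by field_simp] at h1
      rw [← h1]; group
    have hhw : h⁻¹ * w * h⁻¹ = w := by rw [hwh', mul_inv_cancel_right]
    rw [show x ^ (i + 1) * r = x * t by rw [pow_succ']; ring, ← hconj]
    calc w * (h * ψ t * h⁻¹) * w = (w * h) * ψ t * (h⁻¹ * w) := by group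
      _ = h⁻¹ * (w * ψ t * w) * h := by
          rw [hwh']; nth_rewrite 1 [hwh]; group
      _ = (h⁻¹ * ψ (-t⁻¹) * h) * h ^ (j - 2) * (h * w * h) * (h⁻¹ * ψ (-t⁻¹) * h) := by
          rw [hj, show j - 2 = -1 + j + -1 by ring, zpow_add, zpow_add, zpow_neg_one]; group
      _ = _ := by
          rw [hh, show h * w * h = h * (w * h) by group, hwh, mul_inv_cancel_left]

/-- A generator of the unit group. -/
theorem exists_omega [Fintype F] :
    ∃ ω : Fˣ, orderOf ω = Fintype.card F - 1 ∧ ∀ t : F, t ≠ 0 → ∃ j : ℕ, t = (ω : F) ^ j := by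
  classical
  obtain ⟨ω, hω⟩ := IsCyclic.exists_generator (α := Fˣ)
  refine ⟨ω, ?_, fun t ht => ?_⟩
  · rw [orderOf_eq_card_of_forall_mem_zpowers hω, Nat.card_units, Nat.card_eq_fintype_card]
  · obtain ⟨j, hj⟩ := (mem_powers_iff_mem_zpowers.2 (hω (Units.mk0 t ht)))
    exact ⟨j, by simpa using (congrArg Units.val hj).symm⟩

variable {p : ℕ} [hp : Fact p.Prime] [Fintype F] [Algebra (ZMod p) F]

local notation "FU" => FreeGroup.of (0 : Fin 3)
local notation "FH" => FreeGroup.of (1 : Fin 3)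
local notation "FW" => FreeGroup.of (2 : Fin 3)
local notation "SL2" => Matrix.SpecialLinearGroup (Fin 2) F

/-- The Bruhat relator. -/
noncomputable def bruhatRel (a k : ℕ) (Qr Qs : (ZMod p)[X]) : FreeGroup (Fin 3) :=
  FW * word FU (FH ^ a) Qr * FW * (word FU (FH ^ a) Qs * FH ^ k * FW * word FU (FH ^ a) Qs)⁻¹

/-- A presentation of a quotient `T` of `SL_2`, given two further relators. -/
theorem odd_presentation {T : Type*} [Group T] [Finite T] (π : SL2 →* T)
    (hπ : Function.Surjective π) (ω : Fˣ) (hgenω : ∀ t : F, t ≠ 0 → ∃ j : ℕ, t = (ω : F) ^ j)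
    (a : ℕ) (hsurj : Function.Surjective (aeval (((ω : F) ^ 2) ^ a) : (ZMod p)[X] → F))
    (R3 : FreeGroup (Fin 3))
    (hR3T : FreeGroup.lift ![π (uu 1), π (dd ω), π ww] R3 = 1)
    (hR3 : ∀ (G : Type) (_ : Group G) (f : FreeGroup (Fin 3) →* G), f R3 = 1 → f FU ^ p = 1 →
      Commute (f FU) (f FH ^ a * f FU * (f FH ^ a)⁻¹) →
      ∀ k : ℕ, Commute (f FU) ((f FH ^ a) ^ k * f FU * ((f FH ^ a) ^ k)⁻¹))
    (P : (ZMod p)[X]) (hP : aeval (((ω : F) ^ 2) ^ a) P = (ω : F) ^ 2)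
    (e₁ e₂ : FreeGroup (Fin 3))
    (he₁ : FreeGroup.lift ![π (uu 1), π (dd ω), π ww] e₁ = 1)
    (he₂ : FreeGroup.lift ![π (uu 1), π (dd ω), π ww] e₂ = 1)
    {N : ℕ} (hN : 0 < N) (hcard : Nat.card T = N * (Fintype.card F * (Fintype.card F + 1)))
    (hext : ∀ (G : Type) (_ : Group G) (f : FreeGroup (Fin 3) →* G), f e₁ = 1 → f e₂ = 1 →
      f FW * f FH * (f FW)⁻¹ = (f FH)⁻¹ →
      f FH ^ N = 1 ∧ (∃ k : ℤ, f FW * f FW = f FH ^ k) ∧
        (word (f FU) (f FH ^ a) (minpoly (ZMod p) (((ω : F) ^ 2) ^ a)) = 1 ∨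
          ∃ (n : ℕ) (R : (ZMod p)[X]), 0 < n ∧ 0 < a ∧ f FH ^ n = 1 ∧
            X ^ n - 1 = minpoly (ZMod p) (((ω : F) ^ 2) ^ a) * R ∧ R ∣ P)) :
    ∃ rels : Finset (FreeGroup (Fin 3)), rels.card ≤ 9 ∧
      Presents (π (uu 1)) (π (dd ω)) (π ww) rels := by
  set x : F := (ω : F) ^ 2 with hxdef
  have hω0 : (ω : F) ≠ 0 := ω.ne_zero
  have hx0 : x ≠ 0 := pow_ne_zero _ hω0
  choose pre hpre using hsurj
  obtain ⟨k1, hk1⟩ := hgenω (-1) (by simp)
  obtain ⟨kω, hkω⟩ := hgenω (-(ω : F)⁻¹) (by simp)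
  let L : List (FreeGroup (Fin 3)) :=
    [FU ^ p, FU * (FH ^ a * FU * (FH ^ a)⁻¹) * (FH ^ a * FU * (FH ^ a)⁻¹ * FU)⁻¹, R3,
      FH * FU * FH⁻¹ * (word FU (FH ^ a) P)⁻¹, FW * FH * FW⁻¹ * FH,
      bruhatRel a k1 (pre 1) (pre (-1)), bruhatRel a kω (pre (ω : F)) (pre (-(ω : F)⁻¹)), e₁, e₂]
  set uT := π (uu 1) with huT
  set hT' := π (dd ω) with hhT
  set wT := π (ww : SL2) with hwT
  have hword : ∀ Q : (ZMod p)[X], FreeGroup.lift ![uT, hT', wT] (word FU (FH ^ a) Q) =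
      π (uu (aeval (x ^ a) Q)) := by
    intro Q
    rw [map_word, map_pow, FreeGroup.lift_apply_of, FreeGroup.lift_apply_of]
    exact word_map_uu π ω a Q
  have hgen : Subgroup.closure ({uT, hT', wT} : Set T) = ⊤ := by
    set K := Subgroup.closure ({uT, hT', wT} : Set T) with hK
    have hu : uT ∈ K := Subgroup.subset_closure (by simp)
    have hh : hT' ∈ K := Subgroup.subset_closure (by simp)
    have hw : wT ∈ K := Subgroup.subset_closure (by simp)
    have : K.comap π = ⊤ := by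
      refine eq_top_of_uu (fun t => ?_) hw
      show π (uu t) ∈ K
      rw [← hpre t, ← hword, map_word, map_pow, FreeGroup.lift_apply_of, FreeGroup.lift_apply_of]
      refine Subgroup.list_prod_mem _ fun b hb => ?_
      obtain ⟨i, -, rfl⟩ := List.mem_map.1 hb
      exact K.pow_mem (K.mul_mem (K.mul_mem (K.pow_mem (K.pow_mem hh _) _) hu)
        (K.inv_mem (K.pow_mem (K.pow_mem hh _) _))) _
    rw [eq_top_iff]
    intro t _
    obtain ⟨s, rfl⟩ := hπ t
    have hs : s ∈ K.comap π := this ▸ Subgroup.mem_top s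
    exact hs
  refine exists_presentation uT hT' wT hgen L (k := 9) (le_of_eq rfl) ?_ ?_
  · -- the relations hold in `T`
    haveI : CharP F p := charP_of_injective_algebraMap (algebraMap (ZMod p) F).injective p
    have hB : ∀ (r s : F) (k : ℕ) (Qr Qs : (ZMod p)[X]), r ≠ 0 → aeval (x ^ a) Qr = r →
        aeval (x ^ a) Qs = -r⁻¹ → s = -r⁻¹ → s = (ω : F) ^ k →
        FreeGroup.lift ![uT, hT', wT] (bruhatRel a k Qr Qs) = 1 := by
      intro r s k Qr Qs hr hQr hQs hs hk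
      rw [bruhatRel, map_mul, map_mul, map_mul, map_inv, map_mul, map_mul, map_mul, map_pow, hword,
        hword, hQr, hQs, FreeGroup.lift_apply_of, FreeGroup.lift_apply_of, mul_inv_eq_one]
      show π ww * π (uu r) * π ww = π (uu (-r⁻¹)) * π (dd ω) ^ k * π ww * π (uu (-r⁻¹))
      rw [← map_pow, ← dd_pow, ← map_mul, ← map_mul, ← map_mul, ← map_mul, ← map_mul, step r hr]
      congr 5
      exact Units.ext (by simp [← hk, hs])
    intro r hr
    simp only [L, List.mem_cons, List.not_mem_nil, or_false] at hr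
    rcases hr with rfl | rfl | rfl | rfl | rfl | rfl | rfl | rfl | rfl
    · rw [map_pow, FreeGroup.lift_apply_of]
      show π (uu 1) ^ p = 1
      rw [← map_pow, uu_pow, CharP.cast_eq_zero, zero_mul, uu_zero, map_one]
    · simp only [map_mul, map_inv, map_pow, FreeGroup.lift_apply_of]
      rw [mul_inv_eq_one]
      show π (uu 1) * (π (dd ω) ^ a * π (uu 1) * (π (dd ω) ^ a)⁻¹) =
        π (dd ω) ^ a * π (uu 1) * (π (dd ω) ^ a)⁻¹ * π (uu 1)
      rw [← map_pow, ← map_inv, ← map_mul, ← map_mul, dd_pow_conj, ← map_mul, ← map_mul, ← uu_add,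
        ← uu_add, add_comm]
    · exact hR3T
    · rw [map_mul, map_inv, hword, hP, map_mul, map_mul, map_inv, FreeGroup.lift_apply_of,
        FreeGroup.lift_apply_of, mul_inv_eq_one]
      show π (dd ω) * π (uu 1) * (π (dd ω))⁻¹ = π (uu ((ω : F) ^ 2))
      rw [← map_inv, ← map_mul, ← map_mul, dd_conj, mul_one]
    · simp only [map_mul, map_inv, FreeGroup.lift_apply_of]
      rw [mul_eq_one_iff_eq_inv]
      show π ww * π (dd ω) * (π ww)⁻¹ = (π (dd ω))⁻¹
      rw [← map_inv, ← map_inv, ← map_mul, ← map_mul, ww_conj]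
    · exact hB 1 (-1) k1 _ _ one_ne_zero (hpre 1) (by rw [hpre]; simp) (by simp) hk1
    · exact hB (ω : F) _ kω _ _ hω0 (hpre _) (hpre _) rfl hkω
    · exact he₁
    · exact he₂
  · -- the bound
    intro G _ f hf hrel
    simp only [L, List.mem_cons, List.not_mem_nil, or_false, forall_eq_or_imp, forall_eq] at hrel
    obtain ⟨hup, hc, h3, hPr, hinv, hB1, hBω, h1, h2⟩ := hrel
    simp only [map_mul, map_inv, map_pow, map_word, bruhatRel, mul_inv_eq_one] at hup hc hPr hB1 hBω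
    simp only [map_mul, map_inv, mul_eq_one_iff_eq_inv] at hinv
    set u := f FU
    set h := f FH
    set w := f FW
    obtain ⟨hN1, hsq, hm⟩ := hext G inferInstance f h1 h2 hinv
    obtain ⟨ψ, hadd, hψ1, hψh, -, hψw⟩ := exists_param u (h ^ a) h x (x ^ a) hup
      (hR3 G inferInstance f h3 hup hc) (Commute.pow_self h a)
      (fun t => ⟨pre t, hpre t⟩) P hP hPr (hm.imp id fun ⟨n, R, hn, ha, hhn, hX, hR⟩ =>
        Or.inl ⟨n, a, R, hn, ha, rfl, hhn, hX, hR⟩)
    rw [hψw, hψw, hpre, hpre] at hB1 hBω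
    rw [← zpow_natCast] at hB1 hBω
    have hB1' : w * ψ 1 * w = ψ (-(1 : F)⁻¹) * h ^ (k1 : ℤ) * w * ψ (-(1 : F)⁻¹) := by
      rw [inv_one]; exact hB1
    have D : Bruhat ψ h w x N := ⟨hadd, hx0, hψh, hinv, hN, hN1, hsq, fun t ht => by
      obtain ⟨j, rfl⟩ := hgenω t ht
      rcases Nat.even_or_odd j with ⟨i, rfl⟩ | ⟨i, rfl⟩
      · have h := step_orbit hx0 hψh hinv hB1' i
        rwa [mul_one, hxdef, ← pow_mul, two_mul] at h
      · have h := step_orbit hx0 hψh hinv hBω i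
        rwa [hxdef, ← pow_mul, ← pow_succ] at h⟩
    have hg := closure_eq_top_of_surjective f hf
    rw [hcard]
    exact D.card_le (by rw [hψ1]; exact hg)

variable [CharP F p]

/-- The common arithmetic data in odd characteristic. -/
theorem exists_odd_data (hp2 : p ≠ 2) :
    ∃ (ω : Fˣ) (n a : ℕ), (∀ t : F, t ≠ 0 → ∃ j : ℕ, t = (ω : F) ^ j) ∧
      Fintype.card F = 2 * n + 1 ∧ 0 < n ∧ 0 < a ∧ (ω : F) ^ n = -1 ∧ ¬ p ∣ n ∧
      Function.Surjective (aeval (((ω : F) ^ 2) ^ a) : (ZMod p)[X] → F) ∧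
      ∃ R3 : FreeGroup (Fin 3),
        (∀ (T : Type _) (_ : Group T) (π : SL2 →* T),
          FreeGroup.lift ![π (uu 1), π (dd ω), π ww] R3 = 1) ∧
        ∀ (G : Type) (_ : Group G) (f : FreeGroup (Fin 3) →* G), f R3 = 1 → f FU ^ p = 1 →
          Commute (f FU) (f FH ^ a * f FU * (f FH ^ a)⁻¹) →
          ∀ k : ℕ, Commute (f FU) ((f FH ^ a) ^ k * f FU * ((f FH ^ a) ^ k)⁻¹) := by
  obtain ⟨ω, hord, hgenω⟩ := exists_omega (F := F)
  obtain ⟨e, -, he⟩ := FiniteField.card F p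
  have hpodd : Odd p := hp.out.odd_of_ne_two hp2
  have hp3 : 3 ≤ p := by have := hp.out.two_le; omega
  obtain ⟨n, hn⟩ : ∃ n, Fintype.card F = 2 * n + 1 := he ▸ hpodd.pow
  have hn0 : 0 < n := by have := Fintype.one_lt_card (α := F); omega
  have hω0 : (ω : F) ≠ 0 := ω.ne_zero
  have h2ne : (2 : F) ≠ 0 := Ring.two_ne_zero (by rw [ringChar.eq F p]; exact hp2)
  have hordF : orderOf (ω : F) = 2 * n := by rw [orderOf_units, hord, hn]; rfl
  have hxord : orderOf ((ω : F) ^ 2) = n := by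
    rw [orderOf_pow' _ (by norm_num), hordF, Nat.gcd_mul_right_left,
      Nat.mul_div_cancel_left _ (by norm_num)]
  have hωn : (ω : F) ^ n = -1 := by
    have h1 : ((ω : F) ^ n) * ((ω : F) ^ n) = 1 := by
      rw [← pow_add, ← two_mul, ← hordF, pow_orderOf_eq_one]
    refine (mul_self_eq_one_iff.1 h1).resolve_left fun h => ?_
    have := Nat.le_of_dvd hn0 (hordF ▸ orderOf_dvd_of_pow_eq_one h)
    omega
  have hpn : ¬ p ∣ n := fun h => by
    have h1 : p ∣ Fintype.card F := he ▸ dvd_pow_self p e.ne_zero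
    rw [hn] at h1
    exact hp.out.not_dvd_one ((Nat.dvd_add_right (h.mul_left 2)).1 h1)
  have hgpow : ∀ (T : Type _) (_ : Group T) (π : SL2 →* T) (k : ℕ) (t : F),
      π (dd ω) ^ k * π (uu t) * (π (dd ω) ^ k)⁻¹ = π (uu (((ω : F) ^ 2) ^ k * t)) := by
    intro T _ π k t
    rw [← map_pow, ← map_inv, ← map_mul, ← map_mul, dd_pow_conj]
  by_cases h9 : 9 < Fintype.card F
  · -- a trinomial
    have hne : ∀ t : F, t = (ω : F) ^ 2 ∨ t = -(ω : F) ^ 2 → t ≠ 1 := by
      intro t ht h1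
      subst h1
      have h4 : (ω : F) ^ 4 = 1 := by
        rcases ht with h | h
        · rw [show (4 : ℕ) = 2 * 2 by rfl, pow_mul, ← h, one_pow]
        · rw [show (4 : ℕ) = 2 * 2 by rfl, pow_mul, show (ω : F) ^ 2 = -1 by rw [h, neg_neg],
            neg_one_sq]
      have := Nat.le_of_dvd (by norm_num) (hordF ▸ orderOf_dvd_of_pow_eq_one h4)
      omega
    have hz1 : ((ω : F) - (ω : F)⁻¹) / 2 ≠ 0 := by
      refine div_ne_zero (sub_ne_zero.2 fun h => hne _ (Or.inl rfl) ?_) h2ne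
      rw [sq]; nth_rewrite 2 [h]; exact mul_inv_cancel₀ hω0
    have hz2 : ((ω : F) + (ω : F)⁻¹) / 2 ≠ 0 := by
      refine div_ne_zero (fun h => hne _ (Or.inr rfl) ?_) h2ne
      rw [eq_neg_of_add_eq_zero_left h, sq, neg_mul_neg, ← mul_neg]
      rw [eq_neg_of_add_eq_zero_left h] at hω0
      field_simp
      rw [eq_comm, ← sub_eq_zero] 
      have h' : (ω : F) * (ω : F) + 1 = 0 := by
        have := congrArg (fun t => (ω : F) * t) h
        simpa [mul_add, mul_inv_cancel₀ ω.ne_zero] using this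
      linear_combination h'
    obtain ⟨j, hj⟩ := hgenω _ hz1
    obtain ⟨c, hc⟩ := hgenω _ hz2
    have hy : ((ω : F) ^ 2) ^ (j + n) = (((ω : F) - (ω : F)⁻¹) / 2) ^ 2 := by
      rw [pow_add, ← pow_mul, ← pow_mul, mul_comm 2 j, pow_mul, ← hj, mul_comm 2 n,
        pow_mul _ n 2, hωn, neg_one_sq, mul_one]
    have hsum : ((ω : F) ^ 2) ^ c = 1 + ((ω : F) ^ 2) ^ (j + n) := by
      rw [hy, ← pow_mul, mul_comm 2 c, pow_mul, ← hc]
      field_simp
      ring
    have hsurj : Function.Surjective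
        (aeval (((ω : F) ^ 2) ^ (j + n)) : (ZMod p)[X] → F) := by
      intro t
      obtain ⟨Q, rfl⟩ := surjective_add_inv hxord hn0 hp2 (by omega) h9 t
      refine ⟨Q.comp (C 4 * X + C 2), ?_⟩
      rw [aeval_comp]
      congr 2
      rw [map_add, map_mul, aeval_C, aeval_C, aeval_X, map_ofNat, map_ofNat, hy]
      field_simp
      ring
    refine ⟨ω, n, j + n, hgenω, hn, hn0, by omega, hωn, hpn, hsurj,
      FH ^ c * FU * (FH ^ c)⁻¹ * (FU ^ 1 * (FH ^ (j + n) * FU * (FH ^ (j + n))⁻¹) ^ 1)⁻¹, ?_, ?_⟩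
    · intro T _ π
      simp only [map_mul, map_inv, map_pow, FreeGroup.lift_apply_of, pow_one, mul_inv_eq_one]
      show π (dd ω) ^ c * π (uu 1) * (π (dd ω) ^ c)⁻¹ =
        π (uu 1) * (π (dd ω) ^ (j + n) * π (uu 1) * (π (dd ω) ^ (j + n))⁻¹)
      rw [hgpow T _ π, hgpow T _ π, ← map_mul, ← uu_add, mul_one, mul_one, hsum]
    · intro G _ f hf hup hcm
      simp only [map_mul, map_inv, map_pow, mul_inv_eq_one] at hf
      have h1 : ¬ p ∣ 1 := hp.out.not_dvd_one
      exact commute_trinomial hup hcm ((Commute.refl (f FH)).pow_pow c (j + n)) h1 h1 hf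
  · -- a quadratic
    have hsurj := surjective_of_orderOf (p := p) hxord hn0 (by omega)
    have hfr : Module.finrank (ZMod p) F ≤ 2 := by
      by_contra h
      have h1 := Module.card_eq_pow_finrank (K := ZMod p) (V := F)
      rw [ZMod.card] at h1
      have : p ^ 3 ≤ p ^ Module.finrank (ZMod p) F := Nat.pow_le_pow_right hp.out.pos (by omega)
      have : 3 ^ 3 ≤ p ^ 3 := Nat.pow_le_pow_left hp3 3
      omega
    set m := minpoly (ZMod p) ((ω : F) ^ 2)
    set Q := (X * X : (ZMod p)[X]) %ₘ m with hQ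
    have hmint : IsIntegral (ZMod p) ((ω : F) ^ 2) := IsIntegral.of_finite _ _
    have hdeg : Q.natDegree ≤ 1 := by
      have h1 : m.natDegree ≤ 2 := (minpoly.natDegree_le _).trans hfr
      have h2 : Q.natDegree < m.natDegree :=
        natDegree_modByMonic_lt (X * X : (ZMod p)[X]) (minpoly.monic hmint) (minpoly.ne_one _ _)
      omega
    have hQy : aeval ((ω : F) ^ 2) Q = (ω : F) ^ 2 * (ω : F) ^ 2 := by
      rw [hQ, aeval_modByMonic_eq_self_of_root (minpoly.aeval _ _), map_mul, aeval_X]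
    have hrel : (ω : F) ^ 2 * (ω : F) ^ 2 =
        ((Q.coeff 0).val : F) + ((Q.coeff 1).val : F) * (ω : F) ^ 2 := by
      conv_lhs => rw [← hQy, eq_X_add_C_of_natDegree_le_one hdeg]
      rw [map_add, map_mul, aeval_C, aeval_C, aeval_X, add_comm]
      congr 2 <;> rw [← map_natCast (algebraMap (ZMod p) F), ZMod.natCast_zmod_val]
    refine ⟨ω, n, 1, hgenω, hn, hn0, one_pos, hωn, hpn, by simpa using hsurj,
      FH ^ 1 * (FH ^ 1 * FU * (FH ^ 1)⁻¹) * (FH ^ 1)⁻¹ *
        (FU ^ (Q.coeff 0).val * (FH ^ 1 * FU * (FH ^ 1)⁻¹) ^ (Q.coeff 1).val)⁻¹, ?_, ?_⟩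
    · intro T _ π
      simp only [map_mul, map_inv, map_pow, FreeGroup.lift_apply_of, mul_inv_eq_one]
      show π (dd ω) ^ 1 * (π (dd ω) ^ 1 * π (uu 1) * (π (dd ω) ^ 1)⁻¹) * (π (dd ω) ^ 1)⁻¹ =
        π (uu 1) ^ (Q.coeff 0).val *
          (π (dd ω) ^ 1 * π (uu 1) * (π (dd ω) ^ 1)⁻¹) ^ (Q.coeff 1).val
      rw [hgpow T _ π, hgpow T _ π, ← map_pow π, ← map_pow π, uu_pow, uu_pow, ← map_mul, ← uu_add,
        pow_one, mul_one, mul_one, hrel]
    · intro G _ f hf hup hcm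
      simp only [map_mul, map_inv, map_pow, mul_inv_eq_one] at hf
      exact commute_quadratic hcm hf

/-- `SL_2(q)` and `PSL_2(q)` for odd `q`. -/
theorem odd_main (hp2 : p ≠ 2) :
    ∃ ω : Fˣ, (∀ t : F, t ≠ 0 → ∃ j : ℕ, t = (ω : F) ^ j) ∧
    (∃ rels : Finset (FreeGroup (Fin 3)), rels.card ≤ 9 ∧
      Presents (uu (1 : F)) (dd ω) ww rels) ∧
    (∃ rels : Finset (FreeGroup (Fin 3)), rels.card ≤ 9 ∧
      Nonempty (PresentedGroup (↑rels : Set (FreeGroup (Fin 3))) ≃*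
        Matrix.ProjectiveSpecialLinearGroup (Fin 2) F)) := by
  classical
  obtain ⟨ω, n, a, hgenω, hq, hn, ha, hωn, hpn, hsurj, R3, hR3T, hR3⟩ :=
    exists_odd_data (F := F) hp2
  have hωu : ω ^ n = (-1 : Fˣ) := Units.ext (by simpa using hωn)
  have hddn : dd ω ^ n = dd (-1 : Fˣ) := by rw [← dd_pow, hωu]
  have hsl : Nat.card SL2 = (2 * n) * (Fintype.card F * (Fintype.card F + 1)) := by
    rw [CfsgLib.ClassicalGroups.slTwo_card, hq, Nat.add_sub_cancel]; ring
  refine ⟨ω, hgenω, ?_, ?_⟩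
  · obtain ⟨P, hP⟩ := hsurj ((ω : F) ^ 2)
    refine odd_presentation (MonoidHom.id SL2) Function.surjective_id ω hgenω a hsurj R3
      (hR3T SL2 inferInstance _) hR3 P hP (word FU (FH ^ a) (minpoly (ZMod p) (((ω : F) ^ 2) ^ a)))
      (FW * FW * (FH ^ n)⁻¹) ?_ ?_ (N := 2 * n) (by omega) hsl ?_
    · rw [map_word, map_pow, FreeGroup.lift_apply_of, FreeGroup.lift_apply_of]
      have h := word_map_uu (MonoidHom.id SL2) ω a (minpoly (ZMod p) (((ω : F) ^ 2) ^ a))
      refine h.trans ?_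
      rw [minpoly.aeval, uu_zero, map_one]
    · simp only [map_mul, map_inv, map_pow, FreeGroup.lift_apply_of, mul_inv_eq_one]
      show (ww : SL2) * ww = dd ω ^ n
      rw [ww_sq, hddn]
    · intro G _ f h1 h2 hinv
      simp only [map_mul, map_inv, map_pow, mul_inv_eq_one] at h2
      refine ⟨?_, ⟨n, by rw [zpow_natCast]; exact h2⟩, Or.inl (by
        rw [map_word, map_pow] at h1; exact h1)⟩
      have h3 : MulAut.conj (f FW) (f FH ^ n) = (f FH ^ n)⁻¹ := by
        rw [map_pow, MulAut.conj_apply, hinv, inv_pow]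
      rw [← h2, MulAut.conj_apply, show f FW * (f FW * f FW) * (f FW)⁻¹ = f FW * f FW by group] at h3
      rw [two_mul, pow_add, ← h2]
      exact mul_eq_one_iff_eq_inv.2 h3
  · set π := QuotientGroup.mk' (Subgroup.center SL2) with hπ
    have hyn : (((ω : F) ^ 2) ^ a) ^ n = 1 := by
      rw [← pow_mul, ← pow_mul, show 2 * (a * n) = n * (2 * a) by ring, pow_mul, hωn, pow_mul,
        neg_one_sq, one_pow]
    obtain ⟨R, P, hX, hRP, hP⟩ := exists_crt hyn hpn hsurj ((ω : F) ^ 2)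
    have hz : π (dd (-1 : Fˣ)) = 1 := (QuotientGroup.eq_one_iff _).2 neg_one_mem_center
    have hcard : Nat.card (Matrix.ProjectiveSpecialLinearGroup (Fin 2) F) =
        n * (Fintype.card F * (Fintype.card F + 1)) := by
      have h := Cfsg.Agent.Classical.card_sl_eq_center_mul_psl (F := F) 2
      rw [Cfsg.Agent.Classical.card_center_sl 2 (by norm_num), hsl, hq, Nat.add_sub_cancel,
        Nat.gcd_mul_right_right, mul_assoc] at h
      rw [hq]
      exact (Nat.eq_of_mul_eq_mul_left (by norm_num) h).symm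
    suffices h : ∃ rels : Finset (FreeGroup (Fin 3)), rels.card ≤ 9 ∧
        Presents (π (uu 1)) (π (dd ω)) (π ww) rels from
      h.imp fun _ h => h.imp_right Presents.nonempty
    refine odd_presentation π (QuotientGroup.mk'_surjective _) ω hgenω a hsurj R3
      (hR3T _ inferInstance π) hR3 P hP (FH ^ n) (FW * FW) ?_ ?_ (N := n) hn hcard ?_
    · rw [map_pow, FreeGroup.lift_apply_of]
      show π (dd ω) ^ n = 1
      rw [← map_pow, hddn, hz]
    · rw [map_mul, FreeGroup.lift_apply_of]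
      show π ww * π ww = 1
      rw [← map_mul, ww_sq, hz]
    · intro G _ f h1 h2 _
      rw [map_pow] at h1
      rw [map_mul] at h2
      exact ⟨h1, ⟨0, by rw [zpow_zero]; exact h2⟩, Or.inr ⟨n, R, hn, ha, h1, hX, hRP⟩⟩

end CfsgLib.SLTwoPresent
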