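import Mathlib

/-!
An order bound for groups with a Bruhat-type rewriting system of rank one.
-/

set_option autoImplicit false

namespace CfsgLib.SLTwoPresent

variable {G : Type*} [Group G] {F : Type*} [Field F]

/-- Rank one Bruhat data: `ψ` parametrises the root group, `h` the torus, `w` inverts `h`. -/
structure Bruhat (ψ : F → G) (h w : G) (x : F) (N : ℕ) : Prop where
  map_add : ∀ a b, ψ (a + b) = ψ a * ψ b
  x_ne : x ≠ 0
  conj : ∀ t, h * ψ t * h⁻¹ = ψ (x * t)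
  inv : w * h * w⁻¹ = h⁻¹
  N_pos : 0 < N
  pow : h ^ N = 1
  sq : ∃ k : ℤ, w * w = h ^ k
  step : ∀ t, t ≠ 0 → ∃ k : ℤ, w * ψ t * w = ψ (-t⁻¹) * h ^ k * w * ψ (-t⁻¹)

namespace Bruhat

variable {ψ : F → G} {h w : G} {x : F} {N : ℕ}

theorem map_zero (D : Bruhat ψ h w x N) : ψ 0 = 1 := by
  have h1 := D.map_add 0 0
  rw [add_zero] at h1
  exact left_eq_mul.1 h1

theorem conj_zpow (D : Bruhat ψ h w x N) (k : ℤ) (t : F) :
    h ^ k * ψ t * (h ^ k)⁻¹ = ψ (x ^ k * t) := by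
  induction k using Int.induction_on generalizing t with
  | zero => simp
  | succ i ih =>
    rw [zpow_add_one, zpow_add_one₀ D.x_ne]
    calc h ^ (i : ℤ) * h * ψ t * (h ^ (i : ℤ) * h)⁻¹
        = h ^ (i : ℤ) * (h * ψ t * h⁻¹) * (h ^ (i : ℤ))⁻¹ := by group
      _ = _ := by rw [D.conj, ih, mul_assoc]
  | pred i ih =>
    rw [zpow_sub_one, zpow_sub_one₀ D.x_ne]
    have h1 : h⁻¹ * ψ t * h = ψ (x⁻¹ * t) := by
      have h2 := D.conj (x⁻¹ * t)
      rw [← mul_assoc, mul_inv_cancel₀ D.x_ne, one_mul] at h2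
      rw [← h2]; group
    calc h ^ (-(i : ℤ)) * h⁻¹ * ψ t * (h ^ (-(i : ℤ)) * h⁻¹)⁻¹
        = h ^ (-(i : ℤ)) * (h⁻¹ * ψ t * h) * (h ^ (-(i : ℤ)))⁻¹ := by group
      _ = _ := by rw [h1, ih, mul_assoc]

theorem zpow_mul (D : Bruhat ψ h w x N) (k : ℤ) (t : F) :
    h ^ k * ψ t = ψ (x ^ k * t) * h ^ k := by
  rw [← D.conj_zpow, inv_mul_cancel_right]

theorem w_zpow (D : Bruhat ψ h w x N) (k : ℤ) : w * h ^ k = h ^ (-k) * w := by
  have h1 : (MulAut.conj w) (h ^ k) = ((MulAut.conj w) h) ^ k := map_zpow _ _ _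
  rw [MulAut.conj_apply, MulAut.conj_apply, D.inv, inv_zpow, ← zpow_neg] at h1
  rw [← h1, inv_mul_cancel_right]

/-- The normal forms. -/
def form (ψ : F → G) (h w : G) (N : ℕ) : F × Fin N × Option F → G
  | (t, k, none) => ψ t * h ^ (k : ℕ)
  | (t, k, some s) => ψ t * h ^ (k : ℕ) * w * ψ s

theorem mem_small (D : Bruhat ψ h w x N) (t : F) (k : ℤ) :
    ψ t * h ^ k ∈ Set.range (form ψ h w N) := by
  have hN : (0 : ℤ) < N := by exact_mod_cast D.N_pos
  have h0 : (0 : ℤ) ≤ k % N := Int.emod_nonneg _ (by omega)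
  have h1 : k % N < N := Int.emod_lt_of_pos _ hN
  refine ⟨(t, ⟨(k % N).toNat, by omega⟩, none), ?_⟩
  have : h ^ k = h ^ ((k % N).toNat) := by
    conv_lhs => rw [← Int.emod_add_mul_ediv k N, zpow_add, _root_.zpow_mul, zpow_natCast,
      D.pow, one_zpow, mul_one, ← Int.toNat_of_nonneg h0, zpow_natCast]
  rw [this]; rfl

theorem mem_big (D : Bruhat ψ h w x N) (t : F) (k : ℤ) (s : F) :
    ψ t * h ^ k * w * ψ s ∈ Set.range (form ψ h w N) := by
  have hN : (0 : ℤ) < N := by exact_mod_cast D.N_pos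
  have h0 : (0 : ℤ) ≤ k % N := Int.emod_nonneg _ (by omega)
  have h1 : k % N < N := Int.emod_lt_of_pos _ hN
  refine ⟨(t, ⟨(k % N).toNat, by omega⟩, some s), ?_⟩
  have : h ^ k = h ^ ((k % N).toNat) := by
    conv_lhs => rw [← Int.emod_add_mul_ediv k N, zpow_add, _root_.zpow_mul, zpow_natCast,
      D.pow, one_zpow, mul_one, ← Int.toNat_of_nonneg h0, zpow_natCast]
  rw [this]; rfl

/-- The order bound. -/
theorem card_le (D : Bruhat ψ h w x N) [Fintype F]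
    (hgen : Subgroup.closure ({ψ 1, h, w} : Set G) = ⊤) :
    Finite G ∧ Nat.card G ≤ N * (Fintype.card F * (Fintype.card F + 1)) := by
  set S := Set.range (form ψ h w N) with hS
  have hSfin : S.Finite := Set.finite_range _
  have hu : ∀ a ∈ S, ψ 1 * a ∈ S := by
    rintro _ ⟨⟨t, k, _ | s⟩, rfl⟩
    · show ψ 1 * (ψ t * h ^ (k : ℕ)) ∈ S
      rw [← mul_assoc, ← D.map_add, ← zpow_natCast]
      exact D.mem_small _ _
    · show ψ 1 * (ψ t * h ^ (k : ℕ) * w * ψ s) ∈ S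
      rw [← mul_assoc, ← mul_assoc, ← mul_assoc, ← D.map_add, ← zpow_natCast]
      exact D.mem_big _ _ _
  have hh : ∀ a ∈ S, h * a ∈ S := by
    rintro _ ⟨⟨t, k, _ | s⟩, rfl⟩
    · show h * (ψ t * h ^ (k : ℕ)) ∈ S
      rw [show h * (ψ t * h ^ (k : ℕ)) = h * ψ t * h⁻¹ * (h * h ^ (k : ℕ)) by group, D.conj,
        ← pow_succ', ← zpow_natCast]
      exact D.mem_small _ _
    · show h * (ψ t * h ^ (k : ℕ) * w * ψ s) ∈ S
      rw [show h * (ψ t * h ^ (k : ℕ) * w * ψ s) = h * ψ t * h⁻¹ * (h * h ^ (k : ℕ)) * w * ψ s by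
        group, D.conj, ← pow_succ', ← zpow_natCast]
      exact D.mem_big _ _ _
  have hw : ∀ a ∈ S, w * a ∈ S := by
    rintro _ ⟨⟨t, k, o⟩, rfl⟩
    obtain ⟨k2, hk2⟩ := D.sq
    rcases o with _ | s
    · show w * (ψ t * h ^ (k : ℕ)) ∈ S
      have h1 : w * (ψ t * h ^ (k : ℕ)) =
          h ^ (-(k : ℤ)) * w * ψ (x ^ (-(k : ℤ)) * t) := by
        rw [← D.w_zpow, mul_assoc w, D.zpow_mul, ← mul_assoc (x ^ (k : ℤ)),
          ← zpow_add₀ D.x_ne, add_neg_cancel, zpow_zero, one_mul, zpow_natCast]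
      rw [h1, show h ^ (-(k : ℤ)) = ψ 0 * h ^ (-(k : ℤ)) by rw [D.map_zero, one_mul]]
      exact D.mem_big _ _ _
    · show w * (ψ t * h ^ (k : ℕ) * w * ψ s) ∈ S
      have h1 : w * (ψ t * h ^ (k : ℕ) * w * ψ s) = w * ψ t * w * (h ^ (-(k : ℤ)) * ψ s) := by
        rw [← mul_assoc (w * ψ t * w), mul_assoc (w * ψ t) w, D.w_zpow, neg_neg, zpow_natCast]
        group
      rw [h1]
      rcases eq_or_ne t 0 with rfl | ht
      · rw [D.map_zero, mul_one, hk2, ← mul_assoc, ← zpow_add, D.zpow_mul]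
        exact D.mem_small _ _
      · obtain ⟨j, hj⟩ := D.step t ht
        rw [hj, D.zpow_mul, show ψ (-t⁻¹) * h ^ j * w * ψ (-t⁻¹) *
          (ψ (x ^ (-(k : ℤ)) * s) * h ^ (-(k : ℤ))) =
            ψ (-t⁻¹) * h ^ j * w * (ψ (-t⁻¹) * ψ (x ^ (-(k : ℤ)) * s)) * h ^ (-(k : ℤ)) by group,
          ← D.map_add]
        set c : F := -t⁻¹ + x ^ (-(k : ℤ)) * s with hc
        have h2 : w * ψ c * h ^ (-(k : ℤ)) = h ^ (k : ℤ) * w * ψ (x ^ (k : ℤ) * c) := by
          rw [mul_assoc, show ψ c = ψ (x ^ (-(k : ℤ)) * (x ^ (k : ℤ) * c)) by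
            rw [← mul_assoc, ← zpow_add₀ D.x_ne, neg_add_cancel, zpow_zero, one_mul],
            ← D.zpow_mul, ← mul_assoc, D.w_zpow, neg_neg]
        rw [show ψ (-t⁻¹) * h ^ j * w * ψ c * h ^ (-(k : ℤ)) =
            ψ (-t⁻¹) * h ^ j * (w * ψ c * h ^ (-(k : ℤ))) by group, h2,
          show ψ (-t⁻¹) * h ^ j * (h ^ (k : ℤ) * w * ψ (x ^ (k : ℤ) * c)) =
            ψ (-t⁻¹) * (h ^ j * h ^ (k : ℤ)) * w * ψ (x ^ (k : ℤ) * c) by group, ← zpow_add]
        exact D.mem_big _ _ _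
  have hone : (1 : G) ∈ S := by
    have := D.mem_small 0 0
    rwa [D.map_zero, zpow_zero, mul_one] at this
  -- the stabiliser of `S`
  let K : Subgroup G :=
    { carrier := {g | ∀ a, a ∈ S ↔ g * a ∈ S}
      mul_mem' := fun {a b} ha hb c => by rw [mul_assoc]; exact (hb c).trans (ha _)
      one_mem' := fun c => by rw [one_mul]
      inv_mem' := fun {a} ha c => by
        rw [ha (a⁻¹ * c), mul_inv_cancel_left] }
  have hmemK : ∀ g, (∀ a ∈ S, g * a ∈ S) → g ∈ K := by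
    intro g hg a
    refine ⟨hg a, fun ha => ?_⟩
    have himg : (g * ·) '' S = S := Set.eq_of_subset_of_ncard_le
      (by rintro _ ⟨b, hb, rfl⟩; exact hg b hb)
      (by rw [Set.ncard_image_of_injective _ (mul_right_injective g)]) hSfin
    obtain ⟨b, hb, he⟩ := himg.ge ha
    rwa [← mul_left_cancel (show g * b = g * a from he)]
  have hK : K = ⊤ := top_le_iff.1 (hgen ▸ (Subgroup.closure_le K).2 (by
    rintro g (rfl | rfl | rfl)
    exacts [hmemK _ hu, hmemK _ hh, hmemK _ hw]))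
  have hsurj : Function.Surjective (form ψ h w N) := by
    intro g
    have hg : g ∈ K := hK ▸ Subgroup.mem_top g
    have := (hg 1).1 hone
    rwa [mul_one] at this
  refine ⟨Finite.of_surjective _ hsurj, (Nat.card_le_card_of_surjective _ hsurj).trans ?_⟩
  rw [Nat.card_prod, Nat.card_prod, Nat.card_fin, Nat.card_eq_fintype_card,
    Nat.card_eq_fintype_card, Fintype.card_option]
  exact le_of_eq (by ring)

end Bruhat

end CfsgLib.SLTwoPresent
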